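import Mathlib.RingTheory.AdicCompletion.Noetherian
import Mathlib.RingTheory.AdicCompletion.AsTensorProduct
import Mathlib.RingTheory.AdicCompletion.Functoriality
import Mathlib.RingTheory.Finiteness.Basic

/-!
Basic facts on finite modules over adically complete rings.
-/

universe u v w

namespace Groth.Agent.H24Adic

open Submodule

variable {A : Type u} [CommRing A] (I : Ideal A) {M : Type v} [AddCommGroup M] [Module A M]

/-- A finite module over an `I`-adically precomplete ring is `I`-adically precomplete. -/
theorem isPrecomplete_of_finite [IsPrecomplete I A] [Module.Finite A M] : IsPrecomplete I M := by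
  rw [← AdicCompletion.of_surjective_iff]
  intro y
  obtain ⟨t, rfl⟩ := AdicCompletion.ofTensorProduct_surjective_of_finite I M y
  induction t using TensorProduct.induction_on with
  | zero => exact ⟨0, by simp⟩
  | add a b ha hb =>
    obtain ⟨x, hx⟩ := ha
    obtain ⟨z, hz⟩ := hb
    exact ⟨x + z, by rw [map_add, map_add, hx, hz]⟩
  | tmul r x =>
    obtain ⟨a, rfl⟩ := AdicCompletion.of_surjective I A r
    refine ⟨a • x, ?_⟩
    rw [AdicCompletion.ofTensorProduct_tmul]
    refine AdicCompletion.ext fun n => ?_
    simp only [AdicCompletion.val_smul_apply, AdicCompletion.smul_eval, AdicCompletion.of_apply, map_smul, Submodule.mkQ_apply]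
    rfl

/-- A finite module over a Noetherian `I`-adically complete ring is `I`-adically complete. -/
theorem isAdicComplete_of_finite [IsNoetherianRing A] [IsAdicComplete I A] [Module.Finite A M] :
    IsAdicComplete I M :=
  { toIsHausdorff := IsHausdorff.of_le_jacobson I M (IsAdicComplete.le_jacobson_bot I)
    toIsPrecomplete := isPrecomplete_of_finite I }

/-- Elements spanning `M` modulo `I` span `M`, for `A` precomplete and `M` Hausdorff. -/
theorem span_eq_top_of_sup_smul_eq_top [IsPrecomplete I A] [IsHausdorff I M] {n : ℕ}
    (x : Fin n → M) (h : span A (Set.range x) ⊔ I • (⊤ : Submodule A M) = ⊤) :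
    span A (Set.range x) = ⊤ := by
  haveI : IsPrecomplete I (Fin n → A) := isPrecomplete_of_finite I
  have hs : Function.Surjective (Fintype.linearCombination A x) := by
    apply surjective_of_mkQ_comp_surjective (I := I)
    intro z
    obtain ⟨m, rfl⟩ := Submodule.mkQ_surjective _ z
    obtain ⟨p, hp, q, hq, rfl⟩ := Submodule.mem_sup.mp ((eq_top_iff.mp h) (mem_top : m ∈ _))
    rw [← Fintype.range_linearCombination] at hp
    obtain ⟨c, rfl⟩ := hp
    refine ⟨c, ?_⟩
    rw [LinearMap.comp_apply, Submodule.mkQ_apply, Submodule.mkQ_apply, Submodule.Quotient.eq]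
    simpa using hq
  rw [← Fintype.range_linearCombination]
  exact LinearMap.range_eq_top.mpr hs

/-- `M` is finite when `M ⧸ I M` is, for `A` precomplete and `M` Hausdorff. -/
theorem finite_of_finite_quotient [IsPrecomplete I A] [IsHausdorff I M]
    [Module.Finite A (M ⧸ (I • ⊤ : Submodule A M))] : Module.Finite A M := by
  obtain ⟨n, s, hs⟩ := Module.Finite.exists_fin (R := A) (M := M ⧸ (I • ⊤ : Submodule A M))
  choose x hx using fun i => Submodule.mkQ_surjective _ (s i)
  have h : span A (Set.range x) ⊔ I • (⊤ : Submodule A M) = ⊤ := by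
    rw [sup_comm, ← Submodule.comap_map_mkQ, eq_top_iff]
    intro m _
    rw [Submodule.mem_comap, Submodule.map_span, ← Set.range_comp]
    have : (⇑(Submodule.mkQ (I • ⊤ : Submodule A M)) ∘ x) = s := funext hx
    rw [this, hs]
    trivial
  rw [Module.finite_def, ← span_eq_top_of_sup_smul_eq_top I x h]
  exact Submodule.fg_span (Set.finite_range x)

end Groth.Agent.H24Adic
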