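import Mathlib.RingTheory.AdicCompletion.Completeness
import Mathlib.RingTheory.AdicCompletion.RingHom

/-!
Algebra maps out of adic completions into adically complete algebras.
-/

universe u v w

open Ideal

namespace Groth.Agent.H24Adic

variable {R : Type u} [CommRing R] {P : Type v} [CommRing P] [Algebra R P]

theorem exists_sub_of_mem {J : Ideal P} (hJ : J.FG) (n : ℕ) (x : AdicCompletion J P) :
    ∃ p : P, x - algebraMap P (AdicCompletion J P) p ∈
      (J ^ n).map (algebraMap P (AdicCompletion J P)) := by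
  obtain ⟨p, hp⟩ := Ideal.Quotient.mk_surjective (AdicCompletion.evalₐ J n x)
  refine ⟨p, ?_⟩
  rw [← Submodule.restrictScalars_mem P, ← Ideal.smul_top_eq_map,
    AdicCompletion.pow_smul_top_eq_ker_eval hJ, LinearMap.mem_ker]
  have h : J ^ n ≤ J ^ n • (⊤ : Ideal P) := by rw [smul_eq_mul, Ideal.mul_top]
  rw [← AdicCompletion.factor_evalₐ_eq_eval J _ h, map_sub,
    show AdicCompletion.evalₐ J n (algebraMap P (AdicCompletion J P) p) = Ideal.Quotient.mk _ p from
      AdicCompletion.evalₐ_of J n p, hp, sub_self, map_zero]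

variable {B : Type w} [CommRing B] [Algebra R B] (I : Ideal R)

theorem map_pow_le_comap (g : P →ₐ[R] B) (n : ℕ) :
    (I.map (algebraMap R P)) ^ n ≤ ((I.map (algebraMap R B)) ^ n).comap g := by
  rw [← Ideal.map_pow, ← Ideal.map_pow, ← Ideal.map_le_iff_le_comap]
  change ((I ^ n).map (algebraMap R P)).map g.toRingHom ≤ (I ^ n).map (algebraMap R B)
  rw [Ideal.map_map]
  exact le_of_eq (congrArg (fun t : R →+* B => (I ^ n).map t) g.comp_algebraMap)

theorem algHom_ext [IsHausdorff (I.map (algebraMap R B)) B] (hI : (I.map (algebraMap R P)).FG)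
    {ψ ψ' : AdicCompletion (I.map (algebraMap R P)) P →ₐ[R] B}
    (h : ∀ p, ψ (algebraMap P _ p) = ψ' (algebraMap P _ p)) : ψ = ψ' := by
  refine AlgHom.ext fun x => ?_
  refine sub_eq_zero.mp (IsHausdorff.haus (I := I.map (algebraMap R B)) inferInstance _ fun n => ?_)
  rw [SModEq.sub_mem, sub_zero, smul_eq_mul, Ideal.mul_top]
  obtain ⟨p, hp⟩ := exists_sub_of_mem hI n x
  have key : ∀ θ : AdicCompletion (I.map (algebraMap R P)) P →ₐ[R] B,
      θ x - θ (algebraMap P _ p) ∈ (I.map (algebraMap R B)) ^ n := by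
    intro θ
    have h1 : ((I.map (algebraMap R P)) ^ n).map
        (algebraMap P (AdicCompletion (I.map (algebraMap R P)) P)) ≤
          ((I.map (algebraMap R B)) ^ n).comap θ := by
      rw [Ideal.map_le_iff_le_comap]
      exact map_pow_le_comap I (θ.comp (IsScalarTower.toAlgHom R P
        (AdicCompletion (I.map (algebraMap R P)) P))) n
    rw [← map_sub]
    exact h1 hp
  have h2 := sub_mem (key ψ) (key ψ')
  rwa [h p, sub_sub_sub_cancel_right] at h2

theorem exists_algHom [IsAdicComplete (I.map (algebraMap R B)) B] (g : P →ₐ[R] B) :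
    ∃ ψ : AdicCompletion (I.map (algebraMap R P)) P →ₐ[R] B,
      ∀ p, ψ (algebraMap P _ p) = g p := by
  let f : ∀ n, AdicCompletion (I.map (algebraMap R P)) P →ₐ[R] B ⧸ (I.map (algebraMap R B)) ^ n :=
    fun n => (Ideal.quotientMapₐ _ g (map_pow_le_comap I g n)).comp
      ((AdicCompletion.evalₐ (I.map (algebraMap R P)) n).restrictScalars R)
  have hf : ∀ {m n : ℕ} (hle : m ≤ n),
      (Ideal.Quotient.factorₐ R (Ideal.pow_le_pow_right hle)).comp (f n) = f m := by
    intro m n hle
    refine AlgHom.ext fun x => ?_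
    induction x using AdicCompletion.induction_on with
    | _ a =>
      simp only [f, AlgHom.comp_apply, AlgHom.restrictScalars_apply, AdicCompletion.evalₐ_mk]
      have h1 : a.1 m - a.1 n ∈ (I.map (algebraMap R P)) ^ m := by
        have := a.2 hle
        rwa [SModEq.sub_mem, smul_eq_mul, Ideal.mul_top] at this
      have h2 := map_pow_le_comap I g m h1
      rw [Ideal.mem_comap, map_sub, ← Ideal.Quotient.eq] at h2
      exact h2.symm
  refine ⟨IsAdicComplete.liftAlgHom _ f hf, fun p => ?_⟩
  refine sub_eq_zero.mp (IsHausdorff.haus (I := I.map (algebraMap R B)) inferInstance _ fun n => ?_)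
  rw [SModEq.sub_mem, sub_zero, smul_eq_mul, Ideal.mul_top, ← Ideal.Quotient.eq,
    IsAdicComplete.mk_liftAlgHom]
  simp only [f, AlgHom.comp_apply, AlgHom.restrictScalars_apply]
  rw [show AdicCompletion.evalₐ (I.map (algebraMap R P)) n (algebraMap P _ p) =
    Ideal.Quotient.mk _ p from AdicCompletion.evalₐ_of _ n p]
  rfl

end Groth.Agent.H24Adic
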