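import Groth.Agent.H24Adic.Noetherian
import Groth.Agent.H24Adic.CompletionMap
import Mathlib.RingTheory.AdicCompletion.LocalRing

/-!
Adic completions of Noetherian rings are Noetherian.
-/

universe u

set_option linter.style.haveILetI false

namespace Groth.Agent.H24Adic

theorem isNoetherianRing_adicCompletion {S : Type u} [CommRing S] [IsNoetherianRing S] (J : Ideal S) :
    IsNoetherianRing (AdicCompletion J S) := by
  have hJ : J.FG := IsNoetherian.noetherian J
  haveI := AdicCompletion.isAdicComplete_self _ hJ
  haveI : IsNoetherianRing (AdicCompletion J S ⧸ J.map (algebraMap S (AdicCompletion J S))) := by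
    refine isNoetherianRing_of_surjective S _
      ((Ideal.Quotient.mk _).comp (algebraMap S (AdicCompletion J S))) fun z => ?_
    obtain ⟨x, rfl⟩ := Ideal.Quotient.mk_surjective z
    obtain ⟨p, hp⟩ := exists_sub_of_mem hJ 1 x
    rw [pow_one] at hp
    exact ⟨p, (Ideal.Quotient.eq.mpr hp).symm⟩
  exact isNoetherianRing_of_isAdicComplete (J.map (algebraMap S (AdicCompletion J S))) (hJ.map _)

end Groth.Agent.H24Adic
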