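import Groth.Agent.H24Adic.Basic
import Mathlib.RingTheory.Noetherian.OfPrime

/-!
An adically complete ring with finitely generated ideal and Noetherian quotient is Noetherian.
-/

universe u v

namespace Groth.Agent.H24Adic

open Submodule

variable {A : Type u} [CommRing A]

theorem isHausdorff_ideal (J : Ideal A) [IsHausdorff J A] (p : Ideal A) : IsHausdorff J p := by
  refine ⟨fun x hx => Subtype.ext (IsHausdorff.haus ‹IsHausdorff J A› _ fun n => ?_)⟩
  have h := SModEq.zero.mp (hx n)
  rw [SModEq.zero]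
  have := Submodule.mem_map_of_mem (f := p.subtype) h
  rw [Submodule.map_smul''] at this
  exact Submodule.smul_mono le_rfl le_top this

theorem exists_maximal_not_fg (h : ¬ IsNoetherianRing A) :
    ∃ p : Ideal A, Maximal (¬ Submodule.FG ·) p := by
  rw [isNoetherianRing_iff_ideal_fg] at h
  push Not at h
  obtain ⟨I, hI⟩ := h
  obtain ⟨M, _, hM⟩ : ∃ M, I ≤ M ∧ Maximal (¬ Submodule.FG ·) M := by
    refine zorn_le_nonempty₀ {I : Ideal A | ¬ I.FG} (fun C hC₁ hC₂ J hJ => ⟨sSup C, ?_, fun _ => le_sSup⟩) I hI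
    rintro ⟨G, hG⟩
    obtain ⟨K, hK, hGK⟩ : ∃ K ∈ C, (G : Set A) ⊆ K := by
      refine hC₂.directedOn.exists_mem_subset_of_finset_subset_biUnion ⟨J, hJ⟩ (fun x hx => ?_)
      simp only [Set.mem_iUnion, SetLike.mem_coe, exists_prop]
      exact (Submodule.mem_sSup_of_directed ⟨J, hJ⟩ hC₂.directedOn).1 <| hG ▸ subset_span hx
    exact hC₁ hK ⟨G, le_antisymm (span_le.2 hGK) (hG.symm ▸ le_sSup hK)⟩
  exact ⟨M, hM⟩

/-- If `A` is `J`-adically complete, `J` is finitely generated and `A ⧸ J` is Noetherian, then `A`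
is Noetherian. -/
theorem isNoetherianRing_of_isAdicComplete (J : Ideal A) [IsAdicComplete J A] (hJ : J.FG)
    [IsNoetherianRing (A ⧸ J)] : IsNoetherianRing A := by
  by_contra h
  obtain ⟨p, hp⟩ := exists_maximal_not_fg h
  have hprime : p.IsPrime := Ideal.isOka_fg.isPrime_of_maximal_not hp
  by_cases hle : J ≤ p
  · refine hp.prop (Ideal.fg_of_fg_map_of_fg_inf_ker_of_surjective (f := Ideal.Quotient.mk J)
      (IsNoetherian.noetherian _) ?_ Ideal.Quotient.mk_surjective)
    rwa [Ideal.mk_ker, inf_eq_right.mpr hle]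
  · obtain ⟨x, hxJ, hxp⟩ := SetLike.not_le_iff_exists.mp hle
    have hq : (p ⊔ Ideal.span {x}).FG := by
      by_contra hq
      exact hp.not_prop_of_gt (Submodule.lt_sup_iff_notMem.2 hxp) hq
    obtain ⟨n, g, hg⟩ := Submodule.fg_iff_exists_fin_generating_family.1 hq
    have hgm : ∀ i, g i ∈ p ⊔ Ideal.span {x} := fun i => hg ▸ subset_span (Set.mem_range_self i)
    choose pi hpi q hq' hsum using fun i => Submodule.mem_sup.mp (hgm i)
    choose c hc using fun i => Ideal.mem_span_singleton'.mp (hq' i)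
    haveI : IsHausdorff J p := isHausdorff_ideal J p
    let y : Fin n → p := fun i => ⟨pi i, hpi i⟩
    have htop : span A (Set.range y) = ⊤ := by
      refine span_eq_top_of_sup_smul_eq_top J y (eq_top_iff.mpr ?_)
      rintro ⟨z, hz⟩ -
      have hz' : z ∈ span A (Set.range g) := hg ▸ Submodule.mem_sup_left hz
      obtain ⟨a, ha⟩ := (Submodule.mem_span_range_iff_exists_fun A).1 hz'
      set w := ∑ i, a i * c i with hw
      have hzw : z = (∑ i, a i * pi i) + x * w := by
        rw [← ha, hw, Finset.mul_sum, ← Finset.sum_add_distrib]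
        refine Finset.sum_congr rfl fun i _ => ?_
        rw [← hsum i, ← hc i, smul_eq_mul]
        ring
      have hwp : w ∈ p := by
        refine (hprime.mem_or_mem ?_).resolve_left hxp
        have : x * w = z - ∑ i, a i * pi i := by rw [hzw]; ring
        rw [this]
        exact p.sub_mem hz (p.sum_mem fun i _ => p.mul_mem_left _ (hpi i))
      refine Submodule.mem_sup.mpr ⟨∑ i, a i • y i,
        Submodule.sum_mem _ fun i _ => smul_mem _ _ (subset_span ⟨i, rfl⟩),
        x • (⟨w, hwp⟩ : p), smul_mem_smul hxJ trivial, Subtype.ext ?_⟩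
      simp only [Submodule.coe_add, AddSubmonoidClass.coe_finsetSum, Submodule.coe_smul, smul_eq_mul, y]
      exact hzw.symm
    refine hp.prop ((Submodule.fg_top p).mp ?_)
    rw [← htop]
    exact fg_span (Set.finite_range y)

end Groth.Agent.H24Adic
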