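import Groth.Agent.H24Adic.Basic
import Mathlib.RingTheory.Henselian
import Mathlib.RingTheory.Ideal.KrullsHeightTheorem
import Mathlib.RingTheory.KrullDimension.Zero
import Mathlib.RingTheory.Ideal.GoingUp

/-!
Rig-closed primes of adic Noetherian rings.
-/

universe u v

set_option linter.style.haveILetI false

namespace Groth.Agent.H24Adic

theorem isAdicComplete_of_pow_le {A : Type u} [CommRing A] {I K : Ideal A} {a b : ℕ}
    (hKI : K ^ a ≤ I) (hIK : I ^ b ≤ K) (M : Type v) [AddCommGroup M] [Module A M] [IsAdicComplete I M] :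
    IsAdicComplete K M := by
  have hKI' : K ^ (a + 1) ≤ I := (Ideal.pow_le_pow_right (Nat.le_succ a)).trans hKI
  have hIK' : I ^ (b + 1) ≤ K := (Ideal.pow_le_pow_right (Nat.le_succ b)).trans hIK
  have h1 : ∀ n, (K ^ ((a + 1) * n) • ⊤ : Submodule A M) ≤ I ^ n • ⊤ := fun n =>
    Submodule.smul_mono_left (by rw [pow_mul]; exact Ideal.pow_right_mono hKI' n)
  have h2 : ∀ n, (I ^ ((b + 1) * n) • ⊤ : Submodule A M) ≤ K ^ n • ⊤ := fun n =>
    Submodule.smul_mono_left (by rw [pow_mul]; exact Ideal.pow_right_mono hIK' n)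
  refine { toIsHausdorff := ⟨fun x hx => IsHausdorff.haus (I := I) inferInstance x fun n => ?_⟩
           toIsPrecomplete := ⟨fun f hf => ?_⟩ }
  · exact (hx ((a + 1) * n)).mono (h1 n)
  · obtain ⟨L, hL⟩ := IsPrecomplete.prec (I := I) inferInstance (f := fun n => f ((a + 1) * n))
      fun {m n} hmn => (hf (Nat.mul_le_mul_left _ hmn)).mono (h1 m)
    refine ⟨L, fun n => ?_⟩
    have h3 : n ≤ (a + 1) * ((b + 1) * n) := by
      calc n = 1 * (1 * n) := by ring
        _ ≤ (a + 1) * ((b + 1) * n) :=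
          Nat.mul_le_mul (Nat.le_add_left 1 a) (Nat.mul_le_mul_right n (Nat.le_add_left 1 b))
    exact (hf h3).trans ((hL ((b + 1) * n)).mono (h2 n))

theorem isAdicComplete_radical {A : Type u} [CommRing A] [IsNoetherianRing A] (K : Ideal A)
    [IsAdicComplete K A] : IsAdicComplete K.radical A := by
  obtain ⟨N, hN⟩ := Ideal.exists_radical_pow_le_of_fg K (IsNoetherian.noetherian _)
  exact isAdicComplete_of_pow_le (a := N) (b := 1) hN (by rw [pow_one]; exact Ideal.le_radical) A

/-- In a Noetherian domain where every nonzero prime contains a nonzero element, nonzero primes are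
maximal. -/
theorem krullDimLE_one_of_mem_nonzero_prime {D : Type u} [CommRing D] [IsDomain D] [IsNoetherianRing D]
    {x : D} (hx0 : x ≠ 0) (hx : ∀ P : Ideal D, P.IsPrime → P ≠ ⊥ → x ∈ P) : Ring.KrullDimLE 1 D := by
  classical
  refine Ring.krullDimLE_one_iff_of_noZeroDivisors.mpr fun P hP hPp => ?_
  obtain ⟨M, hM, hPM⟩ := Ideal.exists_le_maximal P hPp.ne_top
  by_cases hmem : M ∈ (Ideal.span {x}).minimalPrimes
  · have hle : M ≤ P := hmem.2 ⟨hPp, (Ideal.span_singleton_le_iff_mem _).mpr (hx P hPp hP)⟩ hPM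
    rw [le_antisymm hPM hle]
    exact hM
  exfalso
  have hfin := Ideal.finite_minimalPrimes_of_isNoetherianRing D (Ideal.span {x})
  obtain ⟨y, hyM, hy⟩ : ∃ y ∈ M, ∀ Q ∈ (Ideal.span {x}).minimalPrimes, y ∉ Q := by
    by_contra hcon
    push Not at hcon
    have hsub : (M : Set D) ⊆ ⋃ Q ∈ (hfin.toFinset : Set (Ideal D)), (Q : Set D) := fun y hy => by
      obtain ⟨Q, hQ, hyQ⟩ := hcon y hy
      exact Set.mem_biUnion (hfin.mem_toFinset.mpr hQ) hyQ
    obtain ⟨Q, hQ, hMQ⟩ := (Ideal.subset_union_prime ⊥ ⊥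
      (fun Q hQ _ _ => (hfin.mem_toFinset.mp hQ).1.1)).mp hsub
    rw [hfin.mem_toFinset] at hQ
    exact hmem (by rw [hM.eq_of_le hQ.1.1.ne_top hMQ]; exact hQ)
  haveI := hM.isPrime
  obtain ⟨P', hP', hP'M⟩ := Ideal.exists_minimalPrimes_le (J := M) ((Ideal.span_singleton_le_iff_mem _).mpr hyM)
  haveI := hP'.1.1
  have hh : P'.height ≤ 1 := Ideal.height_le_one_of_isPrincipal_of_mem_minimalPrimes (Ideal.span {y}) P' hP'
  have hy0 : P' ≠ ⊥ := fun h => by
    have : y = 0 := by
      have := hP'.1.2 (Ideal.mem_span_singleton_self y)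
      rwa [h, Ideal.mem_bot] at this
    obtain ⟨Q, hQ⟩ : (Ideal.span {x}).minimalPrimes.Nonempty := Set.nonempty_coe_sort.mp <| Ideal.nonempty_minimalPrimes (fun htop => by
      have := hx P hPp hP
      exact hPp.ne_top (top_le_iff.mp (htop ▸ (Ideal.span_singleton_le_iff_mem _).mpr this)))
    exact hy Q hQ (this ▸ zero_mem Q)
  obtain ⟨Q, hQ, hQP⟩ := Ideal.exists_minimalPrimes_le (J := P')
    ((Ideal.span_singleton_le_iff_mem _).mpr (hx P' inferInstance hy0))
  haveI := hQ.1.1
  rcases hQP.eq_or_lt with h | h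
  · exact hy Q hQ (h ▸ hP'.1.2 (Ideal.mem_span_singleton_self y))
  · have hQ0 : (⊥ : Ideal D) < Q := bot_lt_iff_ne_bot.mpr fun h0 => hx0 (by
      have := hQ.1.2 (Ideal.mem_span_singleton_self x)
      rwa [h0, Ideal.mem_bot] at this)
    haveI : (⊥ : Ideal D).IsPrime := Ideal.isPrime_bot
    have h1 := Ideal.height_add_one_le_of_lt_of_isPrime hQ0
    have h2 := Ideal.height_add_one_le_of_lt_of_isPrime h
    rw [Ideal.height_bot, zero_add] at h1
    have h3 : (2 : ℕ∞) ≤ 1 := by
      calc (2 : ℕ∞) = 1 + 1 := by norm_num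
        _ ≤ Q.height + 1 := by gcongr
        _ ≤ P'.height := h2
        _ ≤ 1 := hh
    norm_num at h3

/-- A Noetherian domain of dimension at most one, complete for a nonzero proper ideal, is local with
maximal ideal the radical of that ideal. -/
theorem eq_radical_of_isMaximal {D : Type u} [CommRing D] [IsDomain D] [IsNoetherianRing D]
    [Ring.KrullDimLE 1 D] (K : Ideal D) [IsAdicComplete K D] (hK : K ≠ ⊥) (M : Ideal D) [hM : M.IsMaximal] :
    M = K.radical := by
  classical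
  haveI := isAdicComplete_radical K
  have hjac : ∀ N : Ideal D, N.IsMaximal → K.radical ≤ N := fun N hN =>
    (IsAdicComplete.le_jacobson_bot K.radical).trans (sInf_le ⟨bot_le, hN⟩)
  have hmin : ∀ N : Ideal D, N.IsMaximal → N ∈ K.minimalPrimes := fun N hN => by
    haveI := hN.isPrime
    obtain ⟨Q, hQ, hQN⟩ := Ideal.exists_minimalPrimes_le (J := N) (Ideal.le_radical.trans (hjac N hN))
    have hQmax : Q.IsMaximal := (Ring.krullDimLE_one_iff_of_noZeroDivisors.mp
      (inferInstance : Ring.KrullDimLE 1 D)) Q (fun h => hK (le_bot_iff.mp (h ▸ hQ.1.2))) hQ.1.1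
    rwa [← hQmax.eq_of_le hN.ne_top hQN]
  have huniq : ∀ N : Ideal D, N.IsMaximal → N = M := by
    intro N hN
    by_contra hne
    have hfin := Ideal.finite_minimalPrimes_of_isNoetherianRing D K
    let T := hfin.toFinset.erase M
    have hcop : M ⊔ ∏ Q ∈ T, Q = ⊤ := Ideal.sup_prod_eq_top fun Q hQ => by
      obtain ⟨hQM, hQ⟩ := Finset.mem_erase.mp hQ
      rw [hfin.mem_toFinset] at hQ
      have hQmax : Q.IsMaximal := (Ring.krullDimLE_one_iff_of_noZeroDivisors.mp
        (inferInstance : Ring.KrullDimLE 1 D)) Q (fun h => hK (le_bot_iff.mp (h ▸ hQ.1.2))) hQ.1.1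
      exact hM.coprime_of_ne hQmax (Ne.symm hQM)
    obtain ⟨u, hu, v, hv, huv⟩ := Submodule.mem_sup.mp (hcop ▸ Submodule.mem_top : (1 : D) ∈ M ⊔ ∏ Q ∈ T, Q)
    have hvT : ∀ Q ∈ T, v ∈ Q := fun Q hQ => Ideal.prod_le_inf.trans (Finset.inf_le hQ) hv
    have huvrad : u * v ∈ K.radical := by
      rw [← Ideal.sInf_minimalPrimes, Submodule.mem_sInf]
      intro Q hQ
      by_cases hQM : Q = M
      · exact hQM ▸ M.mul_mem_right v hu
      · exact Ideal.mul_mem_left Q u (hvT Q (Finset.mem_erase.mpr ⟨hQM, hfin.mem_toFinset.mpr hQ⟩))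
    have hu' : u = 1 - v := eq_sub_of_add_eq huv
    obtain ⟨e, he, hev⟩ := HenselianRing.is_henselian (I := K.radical) (Polynomial.X ^ 2 - Polynomial.X)
      (Polynomial.monic_X_pow_sub (Polynomial.degree_X_le.trans_lt (by norm_num))) v
      (by
        have : v ^ 2 - v = -(u * v) := by rw [hu']; ring
        simpa [this] using huvrad)
      (by
        rw [Polynomial.derivative_sub, Polynomial.derivative_X_pow, Polynomial.derivative_X]
        refine IsUnit.of_mul_eq_one (b := Ideal.Quotient.mk _ (2 * v - 1)) ?_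
        rw [← map_mul, ← map_one (Ideal.Quotient.mk K.radical), Ideal.Quotient.eq]
        have hval : Polynomial.eval v (Polynomial.C ((2 : ℕ) : D) * Polynomial.X ^ (2 - 1) - 1) * (2 * v - 1) - 1 =
            4 * (-(u * v)) := by
          rw [hu']
          simp
          ring
        rw [hval]
        exact Ideal.mul_mem_left _ _ (neg_mem huvrad))
    have he' : e * (e - 1) = 0 := by
      simp [Polynomial.IsRoot] at he
      linear_combination he
    have hNT : N ∈ T := Finset.mem_erase.mpr ⟨hne, hfin.mem_toFinset.mpr (hmin N hN)⟩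
    rcases mul_eq_zero.mp he' with h | h
    · rw [h, zero_sub, neg_mem_iff] at hev
      exact hM.ne_top ((Ideal.eq_top_iff_one _).mpr (huv ▸ M.add_mem hu (hjac M hM hev)))
    · rw [sub_eq_zero] at h
      rw [h] at hev
      exact hN.ne_top ((Ideal.eq_top_iff_one _).mpr (by simpa using N.add_mem (hjac N hN hev) (hvT N hNT)))
  refine le_antisymm ?_ (hjac M hM)
  rw [Ideal.radical_eq_sInf]
  refine le_sInf ?_
  rintro Q ⟨hKQ, hQp⟩
  have hQmax : Q.IsMaximal := (Ring.krullDimLE_one_iff_of_noZeroDivisors.mp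
    (inferInstance : Ring.KrullDimLE 1 D)) Q (fun h => hK (le_bot_iff.mp (h ▸ hKQ))) hQp
  rw [huniq Q hQmax]

variable {A : Type u} [CommRing A] [IsNoetherianRing A] {I : Ideal A} [IsAdicComplete I A]

theorem isAdicComplete_map_quotient (q : Ideal A) :
    IsAdicComplete (I.map (Ideal.Quotient.mk q)) (A ⧸ q) :=
  (IsAdicComplete.map_algebraMap_iff I (A ⧸ q) (S := A ⧸ q)).mpr (isAdicComplete_of_finite I)

theorem rigClosed_quotient (q : PrimeSpectrum A) (hI : ¬ I ≤ q.asIdeal)
    (hmax : ∀ q' : PrimeSpectrum A, q ≤ q' → ¬ I ≤ q'.asIdeal → q' = q) :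
    ringKrullDim (A ⧸ q.asIdeal) = 1 := by
  obtain ⟨x, hxI, hxq⟩ := SetLike.not_le_iff_exists.mp hI
  have hx0 : Ideal.Quotient.mk q.asIdeal x ≠ 0 := fun h => hxq (Ideal.Quotient.eq_zero_iff_mem.mp h)
  haveI := isAdicComplete_map_quotient (I := I) q.asIdeal
  haveI : Ring.KrullDimLE 1 (A ⧸ q.asIdeal) := by
    refine krullDimLE_one_of_mem_nonzero_prime hx0 fun P hP hP0 => ?_
    by_contra hxP
    have h := hmax ⟨P.comap (Ideal.Quotient.mk q.asIdeal), inferInstance⟩
      (fun a ha => Ideal.mem_comap.mpr (by rw [Ideal.Quotient.eq_zero_iff_mem.mpr ha]; exact zero_mem P))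
      fun hle => hxP (hle hxI)
    refine hP0 ?_
    rw [← Ideal.map_comap_of_surjective _ Ideal.Quotient.mk_surjective P,
      show P.comap (Ideal.Quotient.mk q.asIdeal) = q.asIdeal from congrArg PrimeSpectrum.asIdeal h,
      Ideal.map_quotient_self]
  refine eq_of_le_of_not_lt (Ring.krullDimLE_iff.mp inferInstance) fun h => hx0 ?_
  have h' : ringKrullDim (A ⧸ q.asIdeal) ≤ 0 := Order.le_of_lt_succ h
  rw [← Nat.cast_zero, ← Ring.krullDimLE_iff] at h'
  have hmem := IsAdicComplete.le_jacobson_bot _ (Ideal.mem_map_of_mem (Ideal.Quotient.mk q.asIdeal) hxI)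
  have hfield := Ring.KrullDimLE.isField_of_isDomain (R := A ⧸ q.asIdeal)
  haveI hmax' : (⊥ : Ideal (A ⧸ q.asIdeal)).IsMaximal :=
    Ring.isField_iff_maximal_bot.mp hfield
  rwa [Ideal.jacobson_eq_self_of_isMaximal, Ideal.mem_bot] at hmem

end Groth.Agent.H24Adic
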