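import Groth.Agent.H24Adic.Rig
import Groth.Agent.H24Adic.Basic
import Mathlib.RingTheory.Jacobson.Artinian
import Mathlib.RingTheory.Unramified.LocalStructure
import Mathlib.RingTheory.Kaehler.Basic
import Mathlib.RingTheory.Algebraic.Integral

/-!
Rig-closed primes: maximality above them, finiteness of the quotients.
-/

set_option linter.style.haveILetI false

universe u

open Ideal TensorProduct

namespace Groth.Agent.H24Adic

section Base

variable {A : Type u} [CommRing A] [IsNoetherianRing A] {I : Ideal A}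

theorem isMaximal_of_rigClosed (p : PrimeSpectrum A) (hI : ¬ I ≤ p.asIdeal)
    (hmax : ∀ y : PrimeSpectrum A, p ≤ y → ¬ I ≤ y.asIdeal → y = p)
    (P : PrimeSpectrum A) (hle : p ≤ P) (hne : P ≠ p) : P.asIdeal.IsMaximal := by
  obtain ⟨x, hxI, hxp⟩ := SetLike.not_le_iff_exists.mp hI
  have hx0 : Ideal.Quotient.mk p.asIdeal x ≠ 0 := fun h => hxp (Ideal.Quotient.eq_zero_iff_mem.mp h)
  have hdim : Ring.KrullDimLE 1 (A ⧸ p.asIdeal) := krullDimLE_one_of_mem_nonzero_prime hx0 fun Q hQ hQ0 => by
    by_contra hxQ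
    have h := hmax ⟨Q.comap (Ideal.Quotient.mk p.asIdeal), inferInstance⟩
      (fun a ha => Ideal.mem_comap.mpr (by rw [Ideal.Quotient.eq_zero_iff_mem.mpr ha]; exact zero_mem Q))
      fun hle => hxQ (hle hxI)
    refine hQ0 ?_
    rw [← Ideal.map_comap_of_surjective _ Ideal.Quotient.mk_surjective Q,
      show Q.comap (Ideal.Quotient.mk p.asIdeal) = p.asIdeal from congrArg PrimeSpectrum.asIdeal h,
      Ideal.map_quotient_self]
  haveI := Ideal.map_isPrime_of_surjective (f := Ideal.Quotient.mk p.asIdeal) Ideal.Quotient.mk_surjective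
    (I := P.asIdeal) (by rw [Ideal.mk_ker]; exact hle)
  have hne' : P.asIdeal.map (Ideal.Quotient.mk p.asIdeal) ≠ ⊥ := fun h => hne <| by
    refine PrimeSpectrum.ext (le_antisymm ?_ hle)
    rw [Ideal.map_eq_bot_iff_le_ker, Ideal.mk_ker] at h
    exact h
  have := (Ring.krullDimLE_one_iff_of_noZeroDivisors.mp hdim) _ hne' inferInstance
  have h2 := Ideal.comap_isMaximal_of_surjective _ Ideal.Quotient.mk_surjective (K := P.asIdeal.map (Ideal.Quotient.mk p.asIdeal))
  rwa [Ideal.comap_map_of_surjective _ Ideal.Quotient.mk_surjective,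
    ← RingHom.ker_eq_comap_bot, Ideal.mk_ker, sup_eq_left.mpr (show p.asIdeal ≤ P.asIdeal from hle)] at h2

theorem isArtinian_quotient_of_rigClosed (p : PrimeSpectrum A) (hI : ¬ I ≤ p.asIdeal)
    (hmax : ∀ y : PrimeSpectrum A, p ≤ y → ¬ I ≤ y.asIdeal → y = p) :
    IsArtinianRing (A ⧸ (I ⊔ p.asIdeal)) := by
  refine isArtinianRing_iff_isNoetherianRing_krullDimLE_zero.mpr ⟨inferInstance, ?_⟩
  refine Ring.krullDimLE_zero_iff.mpr fun P hP => ?_
  have hker : I ⊔ p.asIdeal ≤ P.comap (Ideal.Quotient.mk (I ⊔ p.asIdeal)) := fun a ha => by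
    rw [Ideal.mem_comap, Ideal.Quotient.eq_zero_iff_mem.mpr ha]; exact zero_mem P
  haveI := isMaximal_of_rigClosed p hI hmax ⟨P.comap (Ideal.Quotient.mk (I ⊔ p.asIdeal)), inferInstance⟩
    (le_sup_right.trans hker) (fun h => hI (le_sup_left.trans (hker.trans (le_of_eq (congrArg PrimeSpectrum.asIdeal h)))))
  rw [← Ideal.map_comap_of_surjective _ (Ideal.Quotient.mk_surjective (I := I ⊔ p.asIdeal)) P]
  exact Or.resolve_left (Ideal.map_eq_top_or_isMaximal_of_surjective _ Ideal.Quotient.mk_surjective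
    (inferInstance : (P.comap (Ideal.Quotient.mk (I ⊔ p.asIdeal))).IsMaximal))
    (by rw [Ideal.map_comap_of_surjective _ Ideal.Quotient.mk_surjective P]; exact hP.ne_top)

end Base

section Finite

variable {A : Type u} [CommRing A] {I : Ideal A} {D : Type u} [CommRing D] [Algebra A D]

/-- An algebra whose quotient by `I` is finite is finite, for complete base and separated algebra. -/
theorem finite_of_finite_algebra_quotient [IsPrecomplete I A] [IsHausdorff (I.map (algebraMap A D)) D]
    (h : Module.Finite A (D ⧸ I.map (algebraMap A D))) : Module.Finite A D := by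
  haveI : IsHausdorff I D := IsHausdorff.map_algebraMap_iff.mp ‹_›
  haveI : Module.Finite A (D ⧸ (I • ⊤ : Submodule A D)) := by
    have e : (I • ⊤ : Submodule A D) = (I.map (algebraMap A D)).restrictScalars A := Ideal.smul_top_eq_map I
    rw [e]
    exact Module.Finite.equiv (Submodule.Quotient.restrictScalarsEquiv A (I.map (algebraMap A D))).symm
  exact finite_of_finite_quotient I

variable [IsNoetherianRing A] [IsNoetherianRing D]

theorem isHausdorff_quotient [IsAdicComplete (I.map (algebraMap A D)) D] (a : Ideal D) :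
    IsHausdorff (I.map (algebraMap A (D ⧸ a))) (D ⧸ a) := by
  haveI : IsHausdorff (I.map (algebraMap A D)) (D ⧸ a) :=
    IsHausdorff.of_le_jacobson _ _ (IsAdicComplete.le_jacobson_bot _)
  rw [IsScalarTower.algebraMap_eq A D (D ⧸ a), ← Ideal.map_map]
  exact IsHausdorff.map_algebraMap_iff.mpr inferInstance

/-- Quotients by rig-closed primes over rig-closed primes are finite over the base. -/
theorem finite_quotient_of_rigClosed [IsAdicComplete I A] [IsAdicComplete (I.map (algebraMap A D)) D]
    (hft : Algebra.FiniteType A (D ⧸ I.map (algebraMap A D))) (q : PrimeSpectrum D)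
    (hq : ¬ I.map (algebraMap A D) ≤ q.asIdeal)
    (hqm : ∀ y : PrimeSpectrum D, q ≤ y → ¬ I.map (algebraMap A D) ≤ y.asIdeal → y = q)
    (hp : ¬ I ≤ (PrimeSpectrum.comap (algebraMap A D) q).asIdeal)
    (hpm : ∀ y : PrimeSpectrum A, PrimeSpectrum.comap (algebraMap A D) q ≤ y → ¬ I ≤ y.asIdeal →
      y = PrimeSpectrum.comap (algebraMap A D) q) :
    Module.Finite A (D ⧸ q.asIdeal) := by
  haveI := isHausdorff_quotient (I := I) q.asIdeal
  refine finite_of_finite_algebra_quotient (I := I) ?_
  haveI := isArtinian_quotient_of_rigClosed q hq hqm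
  haveI := isArtinian_quotient_of_rigClosed _ hp hpm
  let J : Ideal D := I.map (algebraMap A D) ⊔ q.asIdeal
  let a : Ideal A := I ⊔ (PrimeSpectrum.comap (algebraMap A D) q).asIdeal
  have hle : a ≤ J.comap (algebraMap A D) := sup_le (Ideal.map_le_iff_le_comap.mp le_sup_left)
    (fun x hx => Ideal.mem_sup_right (show algebraMap A D x ∈ q.asIdeal from hx))
  letI : Algebra (A ⧸ a) (D ⧸ J) := Ideal.quotientMap J (algebraMap A D) hle |>.toAlgebra
  haveI : IsScalarTower A (A ⧸ a) (D ⧸ J) := IsScalarTower.of_algebraMap_eq fun x => rfl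
  haveI : Algebra.FiniteType A (D ⧸ J) := Algebra.FiniteType.of_surjective
    (Ideal.Quotient.factorₐ A (le_sup_left : I.map (algebraMap A D) ≤ J)) (Ideal.Quotient.factor_surjective (le_sup_left : I.map (algebraMap A D) ≤ J))
  haveI : Algebra.FiniteType (A ⧸ a) (D ⧸ J) := Algebra.FiniteType.of_restrictScalars_finiteType A _ _
  haveI : IsArtinianRing (D ⧸ J) := ‹_›
  haveI : Module.Finite (A ⧸ a) (D ⧸ J) := Module.finite_of_isArtinianRing _ _
  haveI : Module.Finite A (D ⧸ J) := Module.Finite.trans (A ⧸ a) _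
  let f : (D ⧸ J) →ₐ[A] (D ⧸ q.asIdeal) ⧸ I.map (algebraMap A (D ⧸ q.asIdeal)) :=
    Ideal.Quotient.liftₐ J ((Ideal.Quotient.mkₐ A _).comp (Ideal.Quotient.mkₐ A q.asIdeal)) (by
      intro x hx
      obtain ⟨b, hb, c, hc, rfl⟩ := Submodule.mem_sup.mp hx
      rw [map_add]
      rw [show ((Ideal.Quotient.mkₐ A _).comp (Ideal.Quotient.mkₐ A q.asIdeal)) c = 0 by
        simp [Ideal.Quotient.eq_zero_iff_mem.mpr hc], add_zero]
      refine Ideal.Quotient.eq_zero_iff_mem.mpr ?_
      rw [IsScalarTower.algebraMap_eq A D (D ⧸ q.asIdeal), ← Ideal.map_map]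
      exact Ideal.mem_map_of_mem _ hb)
  refine Module.Finite.of_surjective f.toLinearMap fun y => ?_
  obtain ⟨z, rfl⟩ := Ideal.Quotient.mk_surjective y
  obtain ⟨x, rfl⟩ := Ideal.Quotient.mk_surjective z
  exact ⟨Ideal.Quotient.mk J x, rfl⟩

/-- An unramified reduction lifts to finiteness over rig-closed primes. -/
theorem finite_quotient_map_of_unramified [IsAdicComplete I A] [IsAdicComplete (I.map (algebraMap A D)) D]
    [Algebra.FormallyUnramified A (D ⧸ I.map (algebraMap A D))]
    (hft : Algebra.FiniteType A (D ⧸ I.map (algebraMap A D))) (p : PrimeSpectrum A)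
    (hp : ¬ I ≤ p.asIdeal) (hpm : ∀ y : PrimeSpectrum A, p ≤ y → ¬ I ≤ y.asIdeal → y = p) :
    Module.Finite A (D ⧸ p.asIdeal.map (algebraMap A D)) := by
  haveI := isHausdorff_quotient (I := I) (p.asIdeal.map (algebraMap A D))
  refine finite_of_finite_algebra_quotient (I := I) ?_
  haveI := isArtinian_quotient_of_rigClosed p hp hpm
  let a : Ideal A := I ⊔ p.asIdeal
  let J : Ideal D := a.map (algebraMap A D)
  letI : Algebra (A ⧸ a) (D ⧸ J) := Ideal.quotientMap J (algebraMap A D) Ideal.le_comap_map |>.toAlgebra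
  haveI : IsScalarTower A (A ⧸ a) (D ⧸ J) := IsScalarTower.of_algebraMap_eq fun x => rfl
  let pr : (D ⧸ I.map (algebraMap A D)) →ₐ[A] D ⧸ J :=
    Ideal.Quotient.factorₐ A (Ideal.map_mono le_sup_left)
  have hpr : Function.Surjective pr := Ideal.Quotient.factor_surjective (Ideal.map_mono le_sup_left)
  haveI : Algebra.FiniteType A (D ⧸ J) := Algebra.FiniteType.of_surjective pr hpr
  haveI : Algebra.FormallyUnramified A (D ⧸ J) := Algebra.FormallyUnramified.of_surjective pr hpr
  haveI : Algebra.QuasiFinite A (D ⧸ J) := inferInstance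
  haveI : Algebra.QuasiFinite (A ⧸ a) (D ⧸ J) := Algebra.QuasiFinite.of_restrictScalars A _ _
  haveI : Module.Finite (A ⧸ a) (D ⧸ J) := Module.Finite.of_quasiFinite
  haveI : Module.Finite A (D ⧸ J) := Module.Finite.trans (A ⧸ a) _
  let f : (D ⧸ J) →ₐ[A] (D ⧸ p.asIdeal.map (algebraMap A D)) ⧸ I.map (algebraMap A (D ⧸ p.asIdeal.map (algebraMap A D))) :=
    Ideal.Quotient.liftₐ J ((Ideal.Quotient.mkₐ A _).comp (Ideal.Quotient.mkₐ A _)) (by
      intro x hx
      rw [show J = I.map (algebraMap A D) ⊔ p.asIdeal.map (algebraMap A D) from Ideal.map_sup _ _ _] at hx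
      obtain ⟨b, hb, c, hc, rfl⟩ := Submodule.mem_sup.mp hx
      rw [map_add]
      rw [show ((Ideal.Quotient.mkₐ A _).comp (Ideal.Quotient.mkₐ A (p.asIdeal.map (algebraMap A D)))) c = 0 by
        simp [Ideal.Quotient.eq_zero_iff_mem.mpr hc], add_zero]
      refine Ideal.Quotient.eq_zero_iff_mem.mpr ?_
      rw [IsScalarTower.algebraMap_eq A D (D ⧸ p.asIdeal.map (algebraMap A D)), ← Ideal.map_map]
      exact Ideal.mem_map_of_mem _ hb)
  refine Module.Finite.of_surjective f.toLinearMap fun y => ?_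
  obtain ⟨z, rfl⟩ := Ideal.Quotient.mk_surjective y
  obtain ⟨x, rfl⟩ := Ideal.Quotient.mk_surjective z
  exact ⟨Ideal.Quotient.mk J x, rfl⟩

end Finite

section Unramified

/-- A finite algebra with unramified reduction modulo an ideal of the Jacobson radical is unramified. -/
theorem formallyUnramified_of_finite {A : Type u} [CommRing A] (I : Ideal A) (D : Type u) [CommRing D]
    [Algebra A D] [Module.Finite A D] (hjac : I ≤ Ideal.jacobson ⊥)
    [Algebra.FormallyUnramified A (D ⧸ I.map (algebraMap A D))] : Algebra.FormallyUnramified A D := by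
  refine ⟨?_⟩
  haveI : Module.Finite A (Ω[D⁄A]) := Module.Finite.trans D _
  let C := D ⧸ I.map (algebraMap A D)
  have hexact := KaehlerDifferential.exact_kerCotangentToTensor_mapBaseChange A D C Ideal.Quotient.mk_surjective
  have hzero : ∀ z, KaehlerDifferential.kerCotangentToTensor A D C z = 0 := by
    intro z
    obtain ⟨⟨x, hx⟩, rfl⟩ := Ideal.toCotangent_surjective _ z
    rw [KaehlerDifferential.kerCotangentToTensor_toCotangent]
    have hx' : x ∈ I.map (algebraMap A D) := Ideal.Quotient.eq_zero_iff_mem.mp hx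
    have : KaehlerDifferential.D A D x ∈ (I • ⊤ : Submodule A (Ω[D⁄A])) := by
      rw [← Submodule.restrictScalars_mem A, ← Ideal.smul_top_eq_map] at hx'
      refine Submodule.smul_induction_on hx' (fun a ha b _ => ?_) (fun b c hb hc => ?_)
      · rw [Derivation.map_smul]; exact Submodule.smul_mem_smul ha Submodule.mem_top
      · rw [map_add]; exact add_mem hb hc
    refine Submodule.smul_induction_on this (fun a ha b _ => ?_) (fun b c hb hc => ?_)
    · rw [← TensorProduct.smul_tmul, Algebra.smul_def, mul_one,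
        show algebraMap A C a = 0 from Ideal.Quotient.eq_zero_iff_mem.mpr (Ideal.mem_map_of_mem _ ha), TensorProduct.zero_tmul]
    · rw [TensorProduct.tmul_add, hb, hc, add_zero]
  haveI : Subsingleton (C ⊗[D] Ω[D⁄A]) := subsingleton_iff_forall_eq 0 |>.mpr fun t => by
    obtain ⟨z, hz⟩ := (hexact t).mp (Subsingleton.elim _ _)
    rw [← hz, hzero]
  have htop : I • (⊤ : Submodule A (Ω[D⁄A])) = ⊤ := by
    have h1 : (I.map (algebraMap A D)) • (⊤ : Submodule D (Ω[D⁄A])) = ⊤ := by
      haveI : Subsingleton (Ω[D⁄A] ⧸ (I.map (algebraMap A D)) • (⊤ : Submodule D (Ω[D⁄A]))) :=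
        (TensorProduct.quotTensorEquivQuotSMul _ (I.map (algebraMap A D))).symm.toEquiv.subsingleton
      exact Submodule.Quotient.subsingleton_iff.mp inferInstance
    refine eq_top_iff.mpr fun ω _ => ?_
    have hω : ω ∈ (I.map (algebraMap A D)) • (⊤ : Submodule D (Ω[D⁄A])) := h1.symm.le Submodule.mem_top
    rwa [← Submodule.restrictScalars_mem A, Ideal.smul_restrictScalars, Submodule.restrictScalars_top] at hω
  have := Submodule.eq_bot_of_le_smul_of_le_jacobson_bot I (⊤ : Submodule A (Ω[D⁄A])) Module.Finite.fg_top htop.ge hjac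
  exact (Submodule.subsingleton_iff A).mp (subsingleton_of_bot_eq_top this.symm)

end Unramified

section Comap

theorem ker_rigClosed_of_isIntegral {A' D : Type u} [CommRing A'] [CommRing D] [IsDomain D] [Algebra A' D]
    [Algebra.IsIntegral A' D] (J : Ideal A') (hJ : J.map (algebraMap A' D) ≠ ⊥)
    (h : ∀ Z : Ideal D, Z.IsPrime → Z ≠ ⊥ → J.map (algebraMap A' D) ≤ Z) :
    ¬ J ≤ RingHom.ker (algebraMap A' D) ∧ ∀ y : PrimeSpectrum A', RingHom.ker (algebraMap A' D) ≤ y.asIdeal →
      ¬ J ≤ y.asIdeal → y.asIdeal = RingHom.ker (algebraMap A' D) := by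
  refine ⟨fun hle => hJ (Ideal.map_eq_bot_iff_le_ker _ |>.mpr hle), fun y hy hJy => ?_⟩
  obtain ⟨Z, hZ, hZy⟩ := Ideal.exists_ideal_over_prime_of_isIntegral_of_isDomain (S := D) y.asIdeal hy
  by_cases hZ0 : Z = ⊥
  · rw [← hZy, hZ0, RingHom.ker_eq_comap_bot]
  · exact absurd (hZy ▸ Ideal.map_le_iff_le_comap.mp (h Z hZ hZ0)) hJy

end Comap

section Nil

/-- A finite type algebra which is finite modulo a nil ideal is finite. -/
theorem finite_of_finite_quotient_nil {R C : Type u} [CommRing R] [CommRing C] [Algebra R C] [Algebra.FiniteType R C]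
    (N : Ideal C) (hN : ∀ x ∈ N, IsNilpotent x) [Module.Finite R (C ⧸ N)] : Module.Finite R C := by
  haveI : Algebra.IsIntegral R C := by
    refine ⟨fun x => ?_⟩
    obtain ⟨g, hg, hgx⟩ := Algebra.IsIntegral.isIntegral (R := R) (Ideal.Quotient.mk N x)
    have hmem : Polynomial.aeval x g ∈ N := by
      rw [← Ideal.Quotient.eq_zero_iff_mem]
      show Ideal.Quotient.mkₐ R N (Polynomial.aeval x g) = 0
      rw [← Polynomial.aeval_algHom_apply]
      exact hgx
    obtain ⟨k, hk⟩ := hN _ hmem
    refine ⟨g ^ k, hg.pow k, ?_⟩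
    show Polynomial.aeval x (g ^ k) = 0
    rw [map_pow]
    exact hk
  exact Algebra.IsIntegral.finite

end Nil

section Field

/-- A field of finite type over `A` is finite over a localisation at a single element. -/
theorem exists_finite_away {A : Type u} [CommRing A] (K : Type u) [Field K] [Algebra A K]
    [Algebra.FiniteType A K] : ∃ f : A, algebraMap A K f ≠ 0 ∧
      ∀ (R : Type u) [CommRing R] [Algebra A R] [Algebra R K] [IsScalarTower A R K],
        IsUnit (algebraMap A R f) → Module.Finite R K := by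
  classical
  let P : Ideal A := RingHom.ker (algebraMap A K)
  haveI : P.IsPrime := RingHom.ker_isPrime _
  letI : Algebra (A ⧸ P) K := (Ideal.Quotient.lift P (algebraMap A K) fun a ha => ha).toAlgebra
  haveI : IsScalarTower A (A ⧸ P) K := IsScalarTower.of_algebraMap_eq fun x => rfl
  have hinj : Function.Injective (algebraMap (A ⧸ P) K) :=
    RingHom.lift_injective_of_ker_le_ideal _ _ le_rfl
  letI : Algebra (FractionRing (A ⧸ P)) K :=
    (IsFractionRing.lift (A := A ⧸ P) (K := FractionRing (A ⧸ P)) hinj).toAlgebra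
  haveI : IsScalarTower (A ⧸ P) (FractionRing (A ⧸ P)) K := IsScalarTower.of_algebraMap_eq fun x =>
    (IsFractionRing.lift_algebraMap hinj x).symm
  haveI : IsScalarTower A (FractionRing (A ⧸ P)) K := IsScalarTower.of_algebraMap_eq fun x => by
    rw [IsScalarTower.algebraMap_apply A (A ⧸ P) (FractionRing (A ⧸ P)),
      ← IsScalarTower.algebraMap_apply (A ⧸ P) (FractionRing (A ⧸ P)) K,
      ← IsScalarTower.algebraMap_apply A (A ⧸ P) K]
  haveI : Algebra.FiniteType (FractionRing (A ⧸ P)) K := Algebra.FiniteType.of_restrictScalars_finiteType A _ _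
  haveI : Module.Finite (FractionRing (A ⧸ P)) K := finite_of_finite_type_of_isJacobsonRing _ K
  haveI : Algebra.IsAlgebraic (FractionRing (A ⧸ P)) K := Algebra.IsAlgebraic.of_finite _ _
  haveI : Algebra.IsAlgebraic (A ⧸ P) K :=
    (IsFractionRing.comap_isAlgebraic_iff (A := A ⧸ P) (K := FractionRing (A ⧸ P)) (C := K)).mpr inferInstance
  obtain ⟨s, hs⟩ := (inferInstance : Algebra.FiniteType A K).out
  obtain ⟨y, hy0, hy⟩ := Algebra.IsAlgebraic.exists_integral_multiples (R := A ⧸ P) s
  obtain ⟨f, rfl⟩ := Ideal.Quotient.mk_surjective y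
  refine ⟨f, fun h => hy0 (Ideal.Quotient.eq_zero_iff_mem.mpr h), fun R _ _ _ _ hf => ?_⟩
  haveI : Algebra.FiniteType R K := Algebra.FiniteType.of_restrictScalars_finiteType A R K
  haveI : Algebra.IsIntegral R K := by
    refine ⟨fun x => ?_⟩
    have hx : x ∈ Algebra.adjoin A (s : Set K) := hs ▸ Algebra.mem_top
    induction hx using Algebra.adjoin_induction with
    | algebraMap r => rw [IsScalarTower.algebraMap_apply A R K]; exact isIntegral_algebraMap
    | add x y _ _ hx hy => exact hx.add hy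
    | mul x y _ _ hx hy => exact hx.mul hy
    | mem x hx =>
      obtain ⟨g, hg, hgx⟩ := hy x hx
      obtain ⟨g', rfl, -, hg'⟩ := Polynomial.lifts_and_natDegree_eq_and_monic
        (Polynomial.map_surjective (Ideal.Quotient.mk P) Ideal.Quotient.mk_surjective g) hg
      have hfx : IsIntegral R (algebraMap A K f * x) := by
        refine IsIntegral.tower_top (R := A) ⟨g', hg', ?_⟩
        rw [Polynomial.eval₂_map] at hgx
        have e1 : (algebraMap (A ⧸ P) K).comp (Ideal.Quotient.mk P) = algebraMap A K := rfl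
        rw [e1, Algebra.smul_def] at hgx
        exact hgx
      obtain ⟨u, hu⟩ := hf
      have : x = algebraMap R K ↑u⁻¹ * (algebraMap A K f * x) := by
        rw [IsScalarTower.algebraMap_apply A R K, ← mul_assoc, ← map_mul, ← hu, Units.inv_mul, map_one, one_mul]
      rw [this]
      exact isIntegral_algebraMap.mul hfx
  exact Algebra.IsIntegral.finite

end Field

end Groth.Agent.H24Adic
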