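import Groth.Agent.H9Hens.PairNoetherian
import Groth.Agent.H24Adic.CompletionMap
import Mathlib.RingTheory.AdicCompletion.Algebra

/-! Completions of quotients of henselizations of pairs are completions of finite type algebras. -/

set_option autoImplicit false
set_option linter.style.haveILetI false

universe u

open Groth.Agent.H9Hens

namespace Groth.Agent.H24Adic

theorem factorPow_evalₐ {R : Type*} [CommRing R] (I : Ideal R) {m n : ℕ} (hle : m ≤ n)
    (x : AdicCompletion I R) :
    Ideal.Quotient.factorPow I hle (AdicCompletion.evalₐ I n x) = AdicCompletion.evalₐ I m x := by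
  induction x using AdicCompletion.induction_on with
  | _ a =>
    simp only [AdicCompletion.evalₐ_mk]
    have h1 := a.2 hle
    rw [SModEq.sub_mem, smul_eq_mul, Ideal.mul_top, ← Ideal.Quotient.eq] at h1
    exact h1.symm

/-- An algebra map which is bijective modulo all powers of the ideal induces an isomorphism of completions. -/
theorem nonempty_algEquiv_adicCompletion {A : Type u} [CommRing A] (I : Ideal A) {B C : Type u}
    [CommRing B] [Algebra A B] [CommRing C] [Algebra A C] (g : B →ₐ[A] C)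
    (hg : ∀ n, Function.Bijective (Ideal.quotientMapₐ _ g (map_pow_le_comap I g n))) :
    Nonempty (AdicCompletion (I.map (algebraMap A B)) B ≃ₐ[A] AdicCompletion (I.map (algebraMap A C)) C) := by
  let e := fun n => AlgEquiv.ofBijective _ (hg n)
  have he : ∀ {m n : ℕ} (hle : m ≤ n) (y : B ⧸ I.map (algebraMap A B) ^ n),
      Ideal.Quotient.factorPow _ hle (e n y) = e m (Ideal.Quotient.factorPow _ hle y) := by
    intro m n hle y
    obtain ⟨b, rfl⟩ := Ideal.Quotient.mk_surjective y
    rfl
  let f : ∀ n, AdicCompletion (I.map (algebraMap A B)) B →ₐ[A] C ⧸ I.map (algebraMap A C) ^ n :=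
    fun n => (e n).toAlgHom.comp ((AdicCompletion.evalₐ _ n).restrictScalars A)
  have hf : ∀ {m n : ℕ} (hle : m ≤ n),
      (Ideal.Quotient.factorₐ A (Ideal.pow_le_pow_right hle)).comp (f n) = f m := fun {m n} hle =>
    AlgHom.ext fun x => (he hle _).trans (congrArg (e m) (factorPow_evalₐ _ hle x))
  let f' : ∀ n, AdicCompletion (I.map (algebraMap A C)) C →ₐ[A] B ⧸ I.map (algebraMap A B) ^ n :=
    fun n => (e n).symm.toAlgHom.comp ((AdicCompletion.evalₐ _ n).restrictScalars A)
  have hf' : ∀ {m n : ℕ} (hle : m ≤ n),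
      (Ideal.Quotient.factorₐ A (Ideal.pow_le_pow_right hle)).comp (f' n) = f' m := by
    intro m n hle
    refine AlgHom.ext fun x => ?_
    show Ideal.Quotient.factorPow _ hle ((e n).symm (AdicCompletion.evalₐ _ n x)) =
      (e m).symm (AdicCompletion.evalₐ _ m x)
    rw [eq_comm, (e m).symm_apply_eq, ← he hle, (e n).apply_symm_apply, factorPow_evalₐ]
  let F := AdicCompletion.liftAlgHom (I.map (algebraMap A C)) f hf
  let G := AdicCompletion.liftAlgHom (I.map (algebraMap A B)) f' hf'
  refine ⟨AlgEquiv.ofAlgHom F G ?_ ?_⟩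
  · refine AlgHom.ext fun x => AdicCompletion.ext_evalₐ fun n => ?_
    show AdicCompletion.evalₐ _ n (F (G x)) = AdicCompletion.evalₐ _ n x
    rw [AdicCompletion.evalₐ_liftAlgHom]
    show e n (AdicCompletion.evalₐ _ n (G x)) = _
    rw [AdicCompletion.evalₐ_liftAlgHom]
    exact (e n).apply_symm_apply _
  · refine AlgHom.ext fun x => AdicCompletion.ext_evalₐ fun n => ?_
    show AdicCompletion.evalₐ _ n (G (F x)) = AdicCompletion.evalₐ _ n x
    rw [AdicCompletion.evalₐ_liftAlgHom]
    show (e n).symm (AdicCompletion.evalₐ _ n (F x)) = _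
    rw [AdicCompletion.evalₐ_liftAlgHom]
    exact (e n).symm_apply_apply _

/-- The completion of a quotient of the henselization of a pair is the completion of a finite type algebra. -/
theorem exists_finiteType_completion_equiv (A : Type u) [CommRing A] [IsNoetherianRing A] (I : Ideal A)
    (C : Type u) [CommRing C] [Algebra A C] [Algebra.FiniteType A C] (Ch : Type u) [CommRing Ch] [Algebra C Ch]
    [Algebra A Ch] [IsScalarTower A C Ch]
    (hCh : Hens2.IsPairHenselization C (I.map (algebraMap A C)) Ch) (J : Ideal Ch) :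
    ∃ (B : Type u) (_ : CommRing B) (_ : Algebra A B), Algebra.FiniteType A B ∧
      Nonempty (AdicCompletion (I.map (algebraMap A B)) B ≃ₐ[A]
        AdicCompletion (I.map (algebraMap A (Ch ⧸ J))) (Ch ⧸ J)) := by
  classical
  haveI : IsNoetherianRing C := Algebra.FiniteType.isNoetherianRing A C
  haveI := pairHenselization_isNoetherianRing hCh
  obtain ⟨π, hπ⟩ := exists_isPtColim_of_isPairHenselization hCh
  obtain ⟨t, ht⟩ := (IsNoetherian.noetherian J : J.FG)
  obtain ⟨S, _, _, _, φ, y, hy⟩ := hπ.exists_rep_finset t id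
  obtain ⟨T, _, _, _, ψ, σT, hb, hσ, -⟩ := exists_etale_nbhd (I := I.map (algebraMap A C)) S (π.comp φ) 1
    (by rw [map_one]; exact isUnit_one)
  obtain ⟨φT, hφT⟩ := hπ.exists_map T σT
  have hfac : φT.comp ψ = φ := hπ.hom_ext (by rw [← AlgHom.comp_assoc, hφT, hσ])
  let : Algebra T Ch := φT.toRingHom.toAlgebra
  have : IsScalarTower C T Ch := IsScalarTower.of_algebraMap_eq fun a => (φT.commutes a).symm
  have hT := isPairHenselization_of_nbhd hCh T hb.2
  letI : Algebra A T := ((algebraMap C T).comp (algebraMap A C)).toAlgebra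
  haveI : IsScalarTower A C T := IsScalarTower.of_algebraMap_eq fun _ => rfl
  haveI : IsScalarTower A T Ch := IsScalarTower.of_algebraMap_eq fun a => by
    rw [IsScalarTower.algebraMap_apply A C Ch, IsScalarTower.algebraMap_apply C T Ch]
    rfl
  haveI : Algebra.FiniteType A T := Algebra.FiniteType.trans ‹Algebra.FiniteType A C› inferInstance
  let J' : Ideal T := Ideal.span ((fun a => ψ (y a)) '' (t : Set Ch))
  have hJ' : J'.map (algebraMap T Ch) = J := by
    rw [Ideal.map_span, ← ht, Set.image_image]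
    congr 1
    exact (Set.image_congr fun a ha => (DFunLike.congr_fun hfac (y a)).trans (hy a ha)).trans (Set.image_id _)
  haveI : Algebra.FiniteType A (T ⧸ J') :=
    ‹Algebra.FiniteType A T›.of_surjective (Ideal.Quotient.mkₐ A J') Ideal.Quotient.mk_surjective
  let g : (T ⧸ J') →ₐ[A] Ch ⧸ J := Ideal.quotientMapₐ J (IsScalarTower.toAlgHom A T Ch)
    (Ideal.map_le_iff_le_comap.mp hJ'.le)
  refine ⟨T ⧸ J', inferInstance, inferInstance, inferInstance, nonempty_algEquiv_adicCompletion I g fun n => ?_⟩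
  have hpow : ((I.map (algebraMap A C)).map (algebraMap C T)) ^ n = (I.map (algebraMap A T)) ^ n := by
    rw [Ideal.map_map, ← IsScalarTower.algebraMap_eq]
  have hbn := pairHenselization_quotient_pow_bijective hT n
  refine ⟨(injective_iff_map_eq_zero _).mpr fun q hq => ?_, fun q => ?_⟩
  · obtain ⟨q', rfl⟩ := Ideal.Quotient.mk_surjective q
    obtain ⟨x, rfl⟩ := Ideal.Quotient.mk_surjective q'
    rw [Ideal.quotient_map_mkₐ, Ideal.Quotient.mkₐ_eq_mk, Ideal.Quotient.eq_zero_iff_mem] at hq
    have hq' : algebraMap T Ch x ∈ J ⊔ ((I.map (algebraMap A C)).map (algebraMap C T) ^ n).map (algebraMap T Ch) := by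
      have e1 : (I.map (algebraMap A (Ch ⧸ J))) ^ n = ((I ^ n).map (algebraMap A Ch)).map (Ideal.Quotient.mk J) := by
        rw [← Ideal.map_pow, IsScalarTower.algebraMap_eq A Ch (Ch ⧸ J), ← Ideal.map_map, Ideal.Quotient.algebraMap_eq]
      have hq2 : Ideal.Quotient.mk J (algebraMap T Ch x) ∈
          ((I ^ n).map (algebraMap A Ch)).map (Ideal.Quotient.mk J) := e1 ▸ hq
      rw [← Ideal.mem_comap, Ideal.comap_map_of_surjective' _ Ideal.Quotient.mk_surjective, Ideal.mk_ker] at hq2
      rw [hpow, ← Ideal.map_pow, Ideal.map_map, ← IsScalarTower.algebraMap_eq, sup_comm]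
      exact hq2
    rw [← hJ', ← Ideal.map_sup] at hq'
    let N : Ideal T := (I.map (algebraMap A C)).map (algebraMap C T) ^ n
    let e := RingEquiv.ofBijective _ hbn
    let h : Ch →+* T ⧸ N := e.symm.toRingHom.comp (Ideal.Quotient.mk _)
    have hh : h.comp (algebraMap T Ch) = Ideal.Quotient.mk N := RingHom.ext fun a => e.symm_apply_eq.mpr rfl
    have h2 := Ideal.mem_map_of_mem h hq'
    rw [Ideal.map_map, hh, ← RingHom.comp_apply, hh, Ideal.mem_quotient_iff_mem_sup, sup_assoc, sup_idem] at h2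
    rw [Ideal.Quotient.eq_zero_iff_mem]
    have h3 : Ideal.Quotient.mk J' x ∈ (J' ⊔ N).map (Ideal.Quotient.mk J') := Ideal.mem_map_of_mem _ h2
    rw [Ideal.map_sup, Ideal.map_quotient_self, bot_sup_eq] at h3
    have e2 : (I.map (algebraMap A (T ⧸ J'))) ^ n = N.map (Ideal.Quotient.mk J') := by
      rw [show N = (I.map (algebraMap A T)) ^ n from hpow, IsScalarTower.algebraMap_eq A T (T ⧸ J'),
        ← Ideal.map_map, Ideal.Quotient.algebraMap_eq, Ideal.map_pow]
    exact e2 ▸ h3
  · obtain ⟨q', rfl⟩ := Ideal.Quotient.mk_surjective q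
    obtain ⟨c, rfl⟩ := Ideal.Quotient.mk_surjective q'
    obtain ⟨y', hy'⟩ := hbn.2 (Ideal.Quotient.mk _ c)
    obtain ⟨x, rfl⟩ := Ideal.Quotient.mk_surjective y'
    refine ⟨Ideal.Quotient.mk _ (Ideal.Quotient.mk J' x), ?_⟩
    rw [Ideal.quotientMap_mk, Ideal.Quotient.eq] at hy'
    rw [Ideal.quotient_map_mkₐ]
    refine Ideal.Quotient.eq.mpr ?_
    show Ideal.Quotient.mk J (algebraMap T Ch x) - Ideal.Quotient.mk J c ∈ _
    rw [← map_sub]
    rw [hpow, ← Ideal.map_pow, Ideal.map_map, ← IsScalarTower.algebraMap_eq] at hy'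
    have h4 := Ideal.mem_map_of_mem (Ideal.Quotient.mk J) hy' 
    rw [← Ideal.map_pow, IsScalarTower.algebraMap_eq A Ch (Ch ⧸ J), ← Ideal.map_map, Ideal.Quotient.algebraMap_eq]
    exact h4

end Groth.Agent.H24Adic
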