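import Groth.Agent.H24Adic.LimitSystem
import Groth.Agent.H24Adic.Noetherian

/-! Limits of adic inverse systems of rings. -/

set_option autoImplicit false
set_option linter.style.haveILetI false

universe u

namespace Groth.Agent.H24Adic

variable {R : ℕ → Type u} [∀ n, CommRing (R n)] (f : ∀ n, R (n + 1) →+* R n)

/-- The composite `R n → R 0`. -/
def toZero : ∀ n, R n →+* R 0
  | 0 => RingHom.id _
  | n + 1 => (toZero n).comp (f n)

/-- The limit of a system of rings. -/
def ringLim : Subring (∀ n, R n) where
  carrier := {x | ∀ n, f n (x (n + 1)) = x n}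
  mul_mem' ha hb n := by simp [ha n, hb n]
  one_mem' n := by simp
  add_mem' ha hb n := by simp [ha n, hb n]
  zero_mem' n := by simp
  neg_mem' ha n := by simp [ha n]

def ringLimProj (n : ℕ) : ringLim f →+* R n := (Pi.evalRingHom R n).comp (ringLim f).subtype

theorem ringLimProj_comm (n : ℕ) (x : ringLim f) : f n (ringLimProj f (n + 1) x) = ringLimProj f n x := x.2 n

theorem toZero_proj (n : ℕ) (x : ringLim f) : toZero f n (ringLimProj f n x) = ringLimProj f 0 x := by
  induction n with
  | zero => rfl
  | succ n ih => rw [toZero, RingHom.comp_apply, ringLimProj_comm, ih]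

variable (hf : ∀ n, Function.Surjective (f n))

include hf in
theorem ringLimProj_surjective (n : ℕ) : Function.Surjective (ringLimProj f n) := by
  induction n with
  | zero =>
    intro r
    exact ⟨⟨fun k => Nat.rec (motive := R) r (fun i y => Function.surjInv (hf i) y) k,
      fun k => Function.surjInv_eq (hf k) _⟩, rfl⟩
  | succ n ih =>
    intro r
    -- compatible family: images below, lifts above
    let up : ∀ k, R (n + 1 + k) := fun k => Nat.rec (motive := fun k => R (n + 1 + k)) r
      (fun i y => Function.surjInv (hf (n + 1 + i)) y) k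
    let down : ∀ m k, m ≤ k → R k → R m := fun m k h =>
      Nat.leRecOn (C := fun k => R k → R m) h (fun {k} g y => g (f k y)) id
    have hd0 : ∀ m (y : R m), down m m le_rfl y = y := fun m y => by simp [down, Nat.leRecOn_self]
    have hd1 : ∀ m k (h : m ≤ k) (y : R (k + 1)), down m (k + 1) (h.trans (Nat.le_succ k)) y = down m k h (f k y) :=
      fun m k h y => by simp [down, Nat.leRecOn_succ h]
    have hd2 : ∀ m k (h : m + 1 ≤ k) (y : R k), f m (down (m + 1) k h y) = down m k (Nat.le_of_succ_le h) y := by
      intro m k h
      induction k, h using Nat.le_induction with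
      | base => intro y; rw [hd0, hd1 m m le_rfl, hd0]
      | succ k hk ih => intro y; rw [hd1 (m + 1) k hk, ih, ← hd1 m k]
    have hstab : ∀ m k (h : m ≤ n + 1 + k),
        down m (n + 1 + (k + 1)) (h.trans (by omega)) (up (k + 1)) = down m (n + 1 + k) h (up k) := by
      intro m k h
      refine (hd1 m (n + 1 + k) h _).trans ?_
      congr 1
      exact Function.surjInv_eq (hf (n + 1 + k)) _
    have hstab2 : ∀ m k k' (h : m ≤ n + 1 + k) (hk : k ≤ k'),
        down m (n + 1 + k') (h.trans (by omega)) (up k') = down m (n + 1 + k) h (up k) := by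
      intro m k k' h hk
      induction k', hk using Nat.le_induction with
      | base => rfl
      | succ k' hk ih => rw [hstab m k' (h.trans (by omega)), ih]
    refine ⟨⟨fun m => down m (n + 1 + m) (by omega) (up m), fun m => ?_⟩, ?_⟩
    · rw [hd2, hstab2 m m (m + 1) (by omega) (by omega)]
    · show down (n + 1) (n + 1 + (n + 1)) _ (up (n + 1)) = r
      rw [hstab2 (n + 1) 0 (n + 1) le_rfl (Nat.zero_le _)]
      exact hd0 _ _

variable (hker : ∀ n, RingHom.ker (f n) = RingHom.ker (toZero f (n + 1)) ^ (n + 1))

include hf in
theorem toZero_surjective : ∀ n, Function.Surjective (toZero f n)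
  | 0 => Function.surjective_id
  | n + 1 => (toZero_surjective n).comp (hf n)

include hf in
theorem map_ker_toZero (n : ℕ) : (RingHom.ker (toZero f (n + 1))).map (f n) = RingHom.ker (toZero f n) := by
  rw [show RingHom.ker (toZero f (n + 1)) = (RingHom.ker (toZero f n)).comap (f n) from
    (RingHom.comap_ker _ _).symm, Ideal.map_comap_of_surjective _ (hf n)]

include hf hker in
theorem ker_toZero_pow (n : ℕ) : RingHom.ker (toZero f n) ^ (n + 1) = ⊥ := by
  rw [← map_ker_toZero f hf n, ← Ideal.map_pow, Ideal.map_eq_bot_iff_le_ker, hker n]

include hf hker in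
/-- An adic system of rings with Noetherian first term comes from a complete Noetherian ring. -/
theorem exists_adic_limit [IsNoetherianRing (R 0)] (h1 : (RingHom.ker (toZero f 1)).FG) :
    ∃ I : Ideal (ringLim f), IsNoetherianRing (ringLim f) ∧ IsAdicComplete I (ringLim f) ∧
      ∀ n, RingHom.ker (ringLimProj f n) = I ^ (n + 1) := by
  classical
  have hπ := ringLimProj_surjective f hf
  obtain ⟨s, hs⟩ := h1
  choose g hg using hπ 1
  let I : Ideal (ringLim f) := Ideal.span (g '' (s : Set (R 1)))
  have hI1 : I.map (ringLimProj f 1) = RingHom.ker (toZero f 1) := by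
    rw [Ideal.map_span, ← Set.image_comp, show (ringLimProj f 1 ∘ g) = id from funext hg, Set.image_id]
    exact hs
  have hI0 : ∀ x ∈ I, ringLimProj f 0 x = 0 := by
    intro x hx
    have := Ideal.mem_map_of_mem (ringLimProj f 1) hx
    rw [hI1, RingHom.mem_ker, toZero_proj] at this
    exact this
  have hcomp : ∀ n, (f n).comp (ringLimProj f (n + 1)) = ringLimProj f n :=
    fun n => RingHom.ext (ringLimProj_comm f n)
  have hIn : ∀ n, I.map (ringLimProj f n) = RingHom.ker (toZero f n) := by
    intro n
    induction n with
    | zero =>
      refine le_antisymm (Ideal.map_le_iff_le_comap.mpr fun x hx => ?_) ?_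
      · show ringLimProj f 0 x = 0
        exact hI0 x hx
      · show RingHom.ker (RingHom.id (R 0)) ≤ _
        intro x hx
        rw [show x = 0 from hx]; exact zero_mem _
    | succ n ih =>
      rcases n with _ | m
      · exact hI1
      · set J := RingHom.ker (toZero f (m + 1 + 1)) with hJ
        have hle : I.map (ringLimProj f (m + 1 + 1)) ≤ J := by
          rw [Ideal.map_le_iff_le_comap]
          intro x hx
          show toZero f _ _ = 0
          rw [toZero_proj]; exact hI0 x hx
        have h2 : J ≤ I.map (ringLimProj f (m + 1 + 1)) ⊔ J ^ 2 := by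
          intro x hx
          have hfx : f (m + 1) x ∈ RingHom.ker (toZero f (m + 1)) := hx
          rw [← ih, ← hcomp (m + 1), ← Ideal.map_map, Ideal.mem_map_iff_of_surjective _ (hf _)] at hfx
          obtain ⟨y, hy, hyx⟩ := hfx
          rw [show x = y + (x - y) by ring]
          refine add_mem (Ideal.mem_sup_left hy) (Ideal.mem_sup_right ?_)
          have : x - y ∈ RingHom.ker (f (m + 1)) := by rw [RingHom.mem_ker, map_sub, hyx, sub_self]
          rw [hker] at this
          exact Ideal.pow_le_pow_right (by omega) this
        have hk : ∀ k, J ≤ I.map (ringLimProj f (m + 1 + 1)) ⊔ J ^ (k + 1) := by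
          intro k
          induction k with
          | zero => rw [pow_one]; exact le_sup_right
          | succ k ihk =>
            refine h2.trans (sup_le le_sup_left ?_)
            rw [pow_two]
            refine (Ideal.mul_mono_right ihk).trans ?_
            rw [Ideal.mul_sup, ← pow_succ']
            exact sup_le (Ideal.mul_le_right.trans le_sup_left) le_sup_right
        refine le_antisymm hle ?_
        have := hk (m + 1 + 1)
        rwa [ker_toZero_pow f hf hker, sup_bot_eq] at this
  letI : ∀ n, Module (ringLim f) (R n) := fun n => Module.compHom (R n) (ringLimProj f n)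
  let S : AdicSystem I R (ringLim f) :=
    { f := fun n => { toFun := f n, map_add' := map_add _,
                      map_smul' := fun c x => by
                        show f n (ringLimProj f (n + 1) c * x) = ringLimProj f n c * f n x
                        rw [map_mul, ringLimProj_comm] }
      hf := hf
      hker := fun n => by
        refine le_antisymm (fun x hx => ?_) (Submodule.smul_le.mpr fun a ha x _ => ?_)
        · have hx' : x ∈ RingHom.ker (f n) := hx
          rw [hker, ← hIn, ← Ideal.map_pow, Ideal.mem_map_iff_of_surjective _ (hπ _)] at hx'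
          obtain ⟨a, ha, rfl⟩ := hx'
          have := Submodule.smul_mem_smul (N := (⊤ : Submodule (ringLim f) (R (n + 1)))) ha
            (Submodule.mem_top (x := (1 : R (n + 1))))
          rwa [show a • (1 : R (n + 1)) = ringLimProj f (n + 1) a from mul_one _] at this
        · show f n (ringLimProj f (n + 1) a * x) = 0
          rw [← RingHom.mem_ker, hker, ← hIn, ← Ideal.map_pow]
          exact Ideal.mul_mem_right _ _ (Ideal.mem_map_of_mem _ ha)
      π := fun n => { toFun := ringLimProj f n, map_add' := map_add _,
                      map_smul' := fun c x => map_mul (ringLimProj f n) c x }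
      hπ := fun n => LinearMap.ext fun x => ringLimProj_comm f n x
      hinj := fun x h => Subtype.ext (funext h)
      hlift := fun y hy => ⟨⟨y, hy⟩, fun _ => rfl⟩ }
  have hIfg : I.FG := by
    refine ⟨s.image g, ?_⟩
    rw [Finset.coe_image]
  have hk := S.ker_eq_of_fg hIfg
  haveI : IsAdicComplete I (ringLim f) := S.isAdicComplete_of_ker hk
  have hkr : ∀ n, RingHom.ker (ringLimProj f n) = I ^ (n + 1) := by
    intro n
    have := hk n
    rw [smul_eq_mul, Ideal.mul_top] at this
    rw [← this]
    ext x
    rfl
  haveI : IsNoetherianRing (ringLim f ⧸ I) := by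
    refine isNoetherianRing_of_ringEquiv (R 0)
      ((RingHom.quotientKerEquivOfSurjective (hπ 0)).symm.trans (Ideal.quotEquivOfEq ?_))
    rw [hkr, zero_add, pow_one]
  exact ⟨I, isNoetherianRing_of_isAdicComplete I hIfg, inferInstance, hkr⟩

end Groth.Agent.H24Adic
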