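import Groth.Agent.H24Adic.Basic
import Mathlib.RingTheory.Ideal.Quotient.Operations

/-!
Limits of adic inverse systems of modules.
-/

universe u v

namespace Groth.Agent.H24Adic

open Submodule

variable {A : Type u} [CommRing A]

theorem exists_sum_of_mem_span_smul {P : Type v} [AddCommGroup P] [Module A P] {r : ℕ}
    (a : Fin r → A) (Q : Submodule A P) {x : P}
    (hx : x ∈ Ideal.span (Set.range a) • Q) : ∃ z : Fin r → P, (∀ i, z i ∈ Q) ∧ x = ∑ i, a i • z i := by
  refine Submodule.smul_induction_on hx (fun b hb y hy => ?_) (fun x y hx hy => ?_)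
  · obtain ⟨c, rfl⟩ := (Submodule.mem_span_range_iff_exists_fun A).1 hb
    refine ⟨fun i => c i • y, fun i => Q.smul_mem _ hy, ?_⟩
    rw [Finset.sum_smul]
    exact Finset.sum_congr rfl fun i _ => by rw [smul_smul, smul_eq_mul, mul_comm]
  · obtain ⟨z, hz, rfl⟩ := hx
    obtain ⟨w, hw, rfl⟩ := hy
    exact ⟨z + w, fun i => Q.add_mem (hz i) (hw i), by simp [smul_add, Finset.sum_add_distrib]⟩

/-- An adic inverse system of modules together with its limit. -/
structure AdicSystem (I : Ideal A) (M : ℕ → Type v) [∀ n, AddCommGroup (M n)] [∀ n, Module A (M n)]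
    (L : Type v) [AddCommGroup L] [Module A L] : Type (max u v) where
  f : ∀ n, M (n + 1) →ₗ[A] M n
  hf : ∀ n, Function.Surjective (f n)
  hker : ∀ n, LinearMap.ker (f n) = I ^ (n + 1) • (⊤ : Submodule A (M (n + 1)))
  π : ∀ n, L →ₗ[A] M n
  hπ : ∀ n, f n ∘ₗ π (n + 1) = π n
  hinj : ∀ x : L, (∀ n, π n x = 0) → x = 0
  hlift : ∀ y : (∀ n, M n), (∀ n, f n (y (n + 1)) = y n) → ∃ x : L, ∀ n, π n x = y n

namespace AdicSystem

variable {I : Ideal A} {M : ℕ → Type v} [∀ n, AddCommGroup (M n)] [∀ n, Module A (M n)]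
  {L : Type v} [AddCommGroup L] [Module A L] (S : AdicSystem I M L)
include S

theorem pow_smul_eq_bot (n : ℕ) : I ^ (n + 1) • (⊤ : Submodule A (M n)) = ⊥ := by
  rw [← LinearMap.range_eq_top.mpr (S.hf n), LinearMap.range_eq_map, ← Submodule.map_smul'',
    ← S.hker n, eq_bot_iff, Submodule.map_le_iff_le_comap, Submodule.comap_bot]

theorem π_apply (n : ℕ) (x : L) : S.f n (S.π (n + 1) x) = S.π n x := by
  conv_rhs => rw [← S.hπ n]
  rfl

theorem π_eq_zero_of_le {m n : ℕ} (h : m ≤ n) {x : L} (hx : S.π n x = 0) : S.π m x = 0 := by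
  induction h using Nat.decreasingInduction with
  | self => exact hx
  | of_succ k _ ih => rw [← S.π_apply, ih, map_zero]

theorem π_eq_zero_of_mem {j k : ℕ} (h : j < k) {x : L} (hx : x ∈ I ^ k • (⊤ : Submodule A L)) :
    S.π j x = 0 := by
  have h1 := Submodule.mem_map_of_mem (f := S.π j) hx
  rw [Submodule.map_smul''] at h1
  have h2 : S.π j x ∈ I ^ (j + 1) • (⊤ : Submodule A (M j)) :=
    Submodule.smul_mono (Ideal.pow_le_pow_right h) le_top h1
  rwa [S.pow_smul_eq_bot, Submodule.mem_bot] at h2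

theorem π_surjective (n : ℕ) : Function.Surjective (S.π n) := by
  induction n with
  | zero =>
    intro m
    obtain ⟨x, hx⟩ := S.hlift
      (fun k => Nat.rec (motive := M) m (fun i y => Function.surjInv (S.hf i) y) k)
      (fun k => Function.surjInv_eq (S.hf k) _)
    exact ⟨x, hx 0⟩
  | succ n ih =>
    intro m
    obtain ⟨x, hx⟩ := ih (S.f n m)
    have hmem : m - S.π (n + 1) x ∈ I ^ (n + 1) • (⊤ : Submodule A (M (n + 1))) := by
      rw [← S.hker, LinearMap.mem_ker, map_sub, S.π_apply, hx, sub_self]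
    have key : I ^ (n + 1) • (⊤ : Submodule A (M (n + 1))) ≤ LinearMap.range (S.π (n + 1)) := by
      have htop : (⊤ : Submodule A (M (n + 1))) ≤
          LinearMap.range (S.π (n + 1)) ⊔ I ^ (n + 1) • ⊤ := by
        intro y _
        obtain ⟨z, hz⟩ := ih (S.f n y)
        refine Submodule.mem_sup.mpr ⟨_, ⟨z, rfl⟩, y - S.π (n + 1) z, ?_, by abel⟩
        rw [← S.hker, LinearMap.mem_ker, map_sub, S.π_apply, hz, sub_self]
      refine (Submodule.smul_mono le_rfl htop).trans ?_
      rw [Submodule.smul_sup, ← Submodule.smul_assoc, smul_eq_mul, ← pow_add]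
      refine sup_le Submodule.smul_le_right ?_
      have hb : I ^ ((n + 1) + (n + 1)) • (⊤ : Submodule A (M (n + 1))) ≤ ⊥ := by
        rw [← S.pow_smul_eq_bot (n + 1)]
        exact Submodule.smul_mono (Ideal.pow_le_pow_right (by omega)) le_rfl
      exact hb.trans bot_le
    obtain ⟨z, hz⟩ := key hmem
    exact ⟨x + z, by rw [map_add, hz]; abel⟩

theorem π_range (n : ℕ) : LinearMap.range (S.π n) = ⊤ :=
  LinearMap.range_eq_top.mpr (S.π_surjective n)

/-- A series with `k`th term in `I ^ k • ⊤` converges in the limit. -/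
theorem exists_sum (z : ℕ → L) (hz : ∀ k, z k ∈ I ^ k • (⊤ : Submodule A L)) :
    ∃ s : L, ∀ j k, j < k → S.π j s = S.π j (∑ i ∈ Finset.range k, z i) := by
  have hstab : ∀ j k, j < k →
      S.π j (∑ i ∈ Finset.range k, z i) = S.π j (∑ i ∈ Finset.range (j + 1), z i) := by
    intro j k h
    induction k, h using Nat.le_induction with
    | base => rfl
    | succ k hk ih =>
      rw [Finset.sum_range_succ, map_add, ih, S.π_eq_zero_of_mem (by omega) (hz k), add_zero]
  obtain ⟨s, hs⟩ := S.hlift (fun j => S.π j (∑ i ∈ Finset.range (j + 1), z i))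
    (fun j => by rw [S.π_apply, hstab j (j + 1 + 1) (by omega)])
  exact ⟨s, fun j k h => by rw [hs, hstab j k h]⟩

theorem pow_smul_le_ker (n : ℕ) : I ^ (n + 1) • (⊤ : Submodule A L) ≤ LinearMap.ker (S.π n) :=
  fun _ hx => S.π_eq_zero_of_mem (Nat.lt_succ_self n) hx

theorem mem_of_π_eq_zero {n : ℕ} {x : L} (hx : S.π n x = 0) :
    x ∈ I ^ (n + 1) • (⊤ : Submodule A L) ⊔ LinearMap.ker (S.π (n + 1)) := by
  have h1 : S.π (n + 1) x ∈ I ^ (n + 1) • (⊤ : Submodule A (M (n + 1))) := by
    rw [← S.hker, LinearMap.mem_ker, S.π_apply, hx]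
  rw [← S.π_range, LinearMap.range_eq_map, ← Submodule.map_smul''] at h1
  obtain ⟨w, hw, hwx⟩ := h1
  exact Submodule.mem_sup.mpr
    ⟨w, hw, x - w, by rw [LinearMap.mem_ker, map_sub, hwx, sub_self], by abel⟩

theorem ker_eq_of_fg (hI : I.FG) (n : ℕ) :
    LinearMap.ker (S.π n) = I ^ (n + 1) • (⊤ : Submodule A L) := by
  refine le_antisymm (fun x hx => ?_) (S.pow_smul_le_ker n)
  obtain ⟨r, a, ha⟩ := Submodule.fg_iff_exists_fin_generating_family.1 (hI.pow (n := n + 1))
  have step : ∀ k : ℕ, ∀ y : LinearMap.ker (S.π (n + k)), ∃ z : Fin r → L,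
      (∀ i, z i ∈ I ^ k • (⊤ : Submodule A L)) ∧
        S.π (n + (k + 1)) ((y : L) - ∑ i, a i • z i) = 0 := by
    rintro k ⟨y, hy⟩
    obtain ⟨w, hw, q, hq, rfl⟩ := Submodule.mem_sup.mp (S.mem_of_π_eq_zero hy)
    rw [show n + k + 1 = (n + 1) + k by omega, pow_add, ← smul_eq_mul, Submodule.smul_assoc, ← ha] at hw
    obtain ⟨z, hz, rfl⟩ := exists_sum_of_mem_span_smul a _ hw
    refine ⟨z, hz, ?_⟩
    rw [add_sub_cancel_left]
    exact hq
  choose z hz hz0 using step
  let y : ∀ k, LinearMap.ker (S.π (n + k)) := fun k =>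
    Nat.rec (motive := fun k => LinearMap.ker (S.π (n + k))) ⟨x, hx⟩
      (fun k y => ⟨(y : L) - ∑ i, a i • z k y i, hz0 k y⟩) k
  choose s hs using fun i => S.exists_sum (fun k => z k (y k) i) (fun k => hz k _ i)
  have hxs : x = ∑ i, a i • s i := by
    rw [← sub_eq_zero]
    refine S.hinj _ fun j => ?_
    have hy : ∀ k, (y k : L) = x - ∑ l ∈ Finset.range k, ∑ i, a i • z l (y l) i := by
      intro k
      induction k with
      | zero => simp [y]
      | succ k ih =>
        rw [Finset.sum_range_succ, ← sub_sub, ← ih]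
    have h0 : S.π j (y (j + 1) : L) = 0 :=
      S.π_eq_zero_of_le (by omega) (y (j + 1)).2
    have hc : ∑ l ∈ Finset.range (j + 1), ∑ i, a i • z l (y l) i =
        ∑ i, a i • ∑ l ∈ Finset.range (j + 1), z l (y l) i := by
      simp [Finset.smul_sum, Finset.sum_comm (γ := Fin r)]
    rw [hy, hc, map_sub, map_sum] at h0
    rw [map_sub, map_sum, ← h0]
    congr 1
    exact Finset.sum_congr rfl fun i _ => by
      rw [map_smul, map_smul, hs i j (j + 1) (Nat.lt_succ_self j)]
  rw [hxs, ← ha]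
  exact Submodule.sum_mem _ fun i _ =>
    Submodule.smul_mem_smul (Ideal.subset_span ⟨i, rfl⟩) trivial

theorem isAdicComplete_of_ker
    (hk : ∀ n, LinearMap.ker (S.π n) = I ^ (n + 1) • (⊤ : Submodule A L)) : IsAdicComplete I L := by
  refine { haus' := fun x hx => S.hinj x fun n => ?_, prec' := fun g hg => ?_ }
  · exact S.π_eq_zero_of_mem (Nat.lt_succ_self n) (SModEq.zero.mp (hx (n + 1)))
  · obtain ⟨s, hs⟩ := S.hlift (fun j => S.π j (g (j + 1))) (fun j => by
      rw [S.π_apply, eq_comm, ← sub_eq_zero, ← map_sub]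
      exact S.π_eq_zero_of_mem (Nat.lt_succ_self j) (SModEq.sub_mem.mp (hg (Nat.le_succ (j + 1)))))
    refine ⟨s, fun n => ?_⟩
    rcases n with _ | n
    · simp
    · rw [SModEq.sub_mem, ← hk, LinearMap.mem_ker, map_sub, hs, sub_self]

section Complete

variable [IsAdicComplete I A]

theorem exists_comb {N : ℕ} (x : Fin N → L)
    (hx : ∀ n, LinearMap.range (S.π n ∘ₗ Fintype.linearCombination A x) = ⊤) {n : ℕ} {y : L}
    (hy : S.π n y = 0) :
    ∃ c : Fin N → A, (∀ i, c i ∈ I ^ (n + 1)) ∧ y = ∑ i, c i • x i := by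
  have step : ∀ k : ℕ, ∀ w : LinearMap.ker (S.π (n + k)), ∃ c : Fin N → A,
      (∀ i, c i ∈ I ^ (n + k + 1)) ∧ S.π (n + (k + 1)) ((w : L) - ∑ i, c i • x i) = 0 := by
    rintro k ⟨w, hw⟩
    have h1 : S.π (n + k + 1) w ∈ I ^ (n + k + 1) • (⊤ : Submodule A (M (n + k + 1))) := by
      rw [← S.hker, LinearMap.mem_ker, S.π_apply]
      exact hw
    have h2 : (⊤ : Submodule A (M (n + k + 1))) =
        Submodule.span A (Set.range fun i => S.π (n + k + 1) (x i)) := by
      have hcomp : (fun i => S.π (n + k + 1) (x i)) = S.π (n + k + 1) ∘ x := rfl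
      rw [hcomp, Set.range_comp, ← Submodule.map_span, ← Fintype.range_linearCombination,
        ← LinearMap.range_comp, hx]
    rw [h2, Submodule.mem_ideal_smul_span_iff_exists_sum] at h1
    obtain ⟨c, hc, hsum⟩ := h1
    refine ⟨c, hc, ?_⟩
    change S.π (n + k + 1) (w - ∑ i, c i • x i) = 0
    rw [map_sub, map_sum, ← hsum, Finsupp.sum_fintype _ _ (by simp), sub_eq_zero]
    exact Finset.sum_congr rfl fun i _ => (map_smul _ _ _).symm
  choose c hc hc0 using step
  let w : ∀ k, LinearMap.ker (S.π (n + k)) := fun k =>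
    Nat.rec (motive := fun k => LinearMap.ker (S.π (n + k))) ⟨y, hy⟩
      (fun k w => ⟨(w : L) - ∑ i, c k w i • x i, hc0 k w⟩) k
  have hcauchy : ∀ i k m, k ≤ m → (∑ l ∈ Finset.range m, c l (w l) i) -
      (∑ l ∈ Finset.range k, c l (w l) i) ∈ I ^ (n + k + 1) := by
    intro i k m h
    rw [← Finset.sum_Ico_eq_sub _ h]
    exact Ideal.sum_mem _ fun l hl => Ideal.pow_le_pow_right
      (by have := (Finset.mem_Ico.mp hl).1; omega) (hc l _ i)
  choose C hC using fun i => IsPrecomplete.prec (I := I) inferInstance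
    (f := fun k => ∑ l ∈ Finset.range k, c l (w l) i) (fun {a b} hab => by
      rw [SModEq.sub_mem, smul_eq_mul, Ideal.mul_top, ← neg_sub]
      exact neg_mem (Ideal.pow_le_pow_right (by omega) (hcauchy i a b hab)))
  refine ⟨C, fun i => ?_, ?_⟩
  · have h := hC i (n + 1)
    rw [SModEq.sub_mem, smul_eq_mul, Ideal.mul_top] at h
    have h2 : ∑ l ∈ Finset.range (n + 1), c l (w l) i ∈ I ^ (n + 1) :=
      Ideal.sum_mem _ fun l _ => Ideal.pow_le_pow_right (by omega) (hc l _ i)
    simpa using sub_mem h2 h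
  · rw [← sub_eq_zero]
    refine S.hinj _ fun j => ?_
    have hw : ∀ k, (w k : L) = y - ∑ l ∈ Finset.range k, ∑ i, c l (w l) i • x i := by
      intro k
      induction k with
      | zero => simp [w]
      | succ k ih => rw [Finset.sum_range_succ, ← sub_sub, ← ih]
    have h0 : S.π j (w (j + 1) : L) = 0 :=
      S.π_eq_zero_of_le (by omega) (w (j + 1)).2
    rw [hw, Finset.sum_comm] at h0
    simp only [← Finset.sum_smul, map_sub, map_sum] at h0 ⊢
    rw [← h0]
    congr 1
    refine Finset.sum_congr rfl fun i _ => ?_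
    rw [← sub_eq_zero, ← map_sub, ← sub_smul]
    refine S.π_eq_zero_of_mem (Nat.lt_succ_self j) (Submodule.smul_mem_smul ?_ trivial)
    have h := hC i (j + 1)
    rw [SModEq.sub_mem, smul_eq_mul, Ideal.mul_top] at h
    simpa using neg_mem h

theorem exists_generators [Module.Finite A (M 0)] :
    ∃ (N : ℕ) (x : Fin N → L),
      ∀ n, LinearMap.range (S.π n ∘ₗ Fintype.linearCombination A x) = ⊤ := by
  obtain ⟨N, s, hs⟩ := Module.Finite.exists_fin (R := A) (M := M 0)
  choose x hx using fun i => S.π_surjective 0 (s i)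
  refine ⟨N, x, fun n => ?_⟩
  induction n with
  | zero =>
    rw [LinearMap.range_comp, Fintype.range_linearCombination, Submodule.map_span, ← Set.range_comp]
    rwa [show S.π 0 ∘ x = s from funext hx]
  | succ n ih =>
    set R := LinearMap.range (S.π (n + 1) ∘ₗ Fintype.linearCombination A x)
    have htop : (⊤ : Submodule A (M (n + 1))) ≤ R ⊔ I ^ (n + 1) • ⊤ := by
      intro y _
      have hy : S.f n y ∈ LinearMap.range (S.π n ∘ₗ Fintype.linearCombination A x) := ih ▸ trivial
      obtain ⟨c, hc⟩ := hy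
      refine Submodule.mem_sup.mpr ⟨_, ⟨c, rfl⟩,
        y - S.π (n + 1) (Fintype.linearCombination A x c), ?_, by simp⟩
      rw [← S.hker, LinearMap.mem_ker, map_sub, S.π_apply, sub_eq_zero]
      exact hc.symm
    refine eq_top_iff.mpr (htop.trans (sup_le le_rfl ((Submodule.smul_mono le_rfl htop).trans ?_)))
    rw [Submodule.smul_sup, ← Submodule.smul_assoc, smul_eq_mul, ← pow_add]
    refine sup_le Submodule.smul_le_right ?_
    have hb : I ^ ((n + 1) + (n + 1)) • (⊤ : Submodule A (M (n + 1))) ≤ ⊥ := by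
      rw [← S.pow_smul_eq_bot (n + 1)]
      exact Submodule.smul_mono (Ideal.pow_le_pow_right (by omega)) le_rfl
    exact hb.trans bot_le

theorem ker_eq_of_finite [Module.Finite A (M 0)] (n : ℕ) :
    LinearMap.ker (S.π n) = I ^ (n + 1) • (⊤ : Submodule A L) := by
  refine le_antisymm (fun y hy => ?_) (S.pow_smul_le_ker n)
  obtain ⟨N, x, hx⟩ := S.exists_generators
  obtain ⟨c, hc, rfl⟩ := S.exists_comb x hx hy
  exact Submodule.sum_mem _ fun i _ => Submodule.smul_mem_smul (hc i) trivial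

theorem finite [Module.Finite A (M 0)] : Module.Finite A L := by
  obtain ⟨N, x, hx⟩ := S.exists_generators
  refine Module.Finite.of_surjective (Fintype.linearCombination A x) fun y => ?_
  have hy0 : S.π 0 y ∈ LinearMap.range (S.π 0 ∘ₗ Fintype.linearCombination A x) := hx 0 ▸ trivial
  obtain ⟨c, hc⟩ := hy0
  obtain ⟨d, -, hd⟩ := S.exists_comb x hx
    (y := y - Fintype.linearCombination A x c) (n := 0) (by
      rw [map_sub, sub_eq_zero]; exact hc.symm)
  refine ⟨c + d, ?_⟩
  rw [map_add, Fintype.linearCombination_apply (v := x) (f := d), ← hd]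
  abel

end Complete

end AdicSystem

end Groth.Agent.H24Adic
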