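import Groth.Agent.H24Adic.RigFinite
import Groth.Agent.H24Adic.CompletionMap
import Groth.Agent.H24Adic.CompletionNoetherian
import Mathlib.RingTheory.IntegralClosure.IsIntegralClosure.Basic

/-!
A finite type algebra and its completion agree infinitesimally at primes with finite quotient.
-/

set_option linter.style.haveILetI false

universe u

open Ideal

namespace Groth.Agent.H24Adic

variable {A : Type u} [CommRing A] [IsNoetherianRing A] {I : Ideal A} [IsAdicComplete I A]
  {P : Type u} [CommRing P] [Algebra A P] [Algebra.FiniteType A P]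

/-- A finite type algebra whose quotient by an ideal is finite has finite quotients by its powers. -/
theorem finite_quotient_pow_ideal {A P : Type u} [CommRing A] [CommRing P] [Algebra A P] [Algebra.FiniteType A P]
    (a : Ideal P) [Module.Finite A (P ⧸ a)] (m : ℕ) : Module.Finite A (P ⧸ a ^ m) := by
  haveI : Algebra.IsIntegral A (P ⧸ a ^ m) := by
    refine ⟨fun x => ?_⟩
    obtain ⟨x, rfl⟩ := Ideal.Quotient.mk_surjective x
    obtain ⟨f, hf, hfx⟩ := Algebra.IsIntegral.isIntegral (R := A) (Ideal.Quotient.mk a x)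
    have hmem : Polynomial.aeval x f ∈ a := by
      rw [← Ideal.Quotient.eq_zero_iff_mem]
      show Ideal.Quotient.mkₐ A a (Polynomial.aeval x f) = 0
      rw [← Polynomial.aeval_algHom_apply]
      exact hfx
    refine ⟨f ^ m, hf.pow m, ?_⟩
    show Polynomial.aeval (Ideal.Quotient.mkₐ A (a ^ m) x) (f ^ m) = 0
    rw [Polynomial.aeval_algHom_apply, map_pow (Polynomial.aeval x)]
    exact Ideal.Quotient.eq_zero_iff_mem.mpr (Ideal.pow_mem_pow hmem m)
  exact Algebra.IsIntegral.finite

variable (I) in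
/-- The completion of an algebra along the extended ideal. -/
abbrev Cpl (P : Type u) [CommRing P] [Algebra A P] : Type u := AdicCompletion (I.map (algebraMap A P)) P

theorem map_completion : (I.map (algebraMap A P)).map (algebraMap P (Cpl I P)) = I.map (algebraMap A (Cpl I P)) := by
  rw [Ideal.map_map, ← IsScalarTower.algebraMap_eq]

theorem isAdicComplete_cpl : IsAdicComplete (I.map (algebraMap A (Cpl I P))) (Cpl I P) := by
  haveI : IsNoetherianRing P := Algebra.FiniteType.isNoetherianRing A P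
  rw [← map_completion]
  exact AdicCompletion.isAdicComplete_self (I.map (algebraMap A P)) (IsNoetherian.noetherian _)

theorem exists_sub_mem_pow (k : ℕ) (y : Cpl I P) :
    ∃ g : P, y - algebraMap P (Cpl I P) g ∈ (I ^ k).map (algebraMap A (Cpl I P)) := by
  haveI : IsNoetherianRing P := Algebra.FiniteType.isNoetherianRing A P
  obtain ⟨g, hg⟩ := exists_sub_of_mem (J := I.map (algebraMap A P)) (IsNoetherian.noetherian _) k y
  refine ⟨g, ?_⟩
  rwa [Ideal.map_pow, ← map_completion, ← Ideal.map_pow]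

theorem finiteType_cpl_quotient :
    Algebra.FiniteType A (Cpl I P ⧸ I.map (algebraMap A (Cpl I P))) := by
  refine Algebra.FiniteType.of_surjective
    ((Ideal.Quotient.mkₐ A _).comp (IsScalarTower.toAlgHom A P (Cpl I P))) fun y => ?_
  obtain ⟨z, rfl⟩ := Ideal.Quotient.mk_surjective y
  obtain ⟨g, hg⟩ := exists_sub_mem_pow 1 z
  rw [pow_one] at hg
  exact ⟨g, (Ideal.Quotient.eq.mpr hg).symm⟩

variable (q : Ideal (Cpl I P)) [Module.Finite A (Cpl I P ⧸ q)]

theorem surjective_to_quotient :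
    Function.Surjective ((Ideal.Quotient.mkₐ A q).comp (IsScalarTower.toAlgHom A P (Cpl I P))) := by
  let φ := ((Ideal.Quotient.mkₐ A q).comp (IsScalarTower.toAlgHom A P (Cpl I P))).toLinearMap
  refine (LinearMap.range_eq_top (f := φ)).mp (eq_top_iff.mpr ?_)
  refine Submodule.le_of_le_smul_of_le_jacobson_bot (R := A) (I := I) Module.Finite.fg_top
    (IsAdicComplete.le_jacobson_bot I) fun y _ => ?_
  obtain ⟨z, rfl⟩ := Ideal.Quotient.mk_surjective y
  obtain ⟨g, hg⟩ := exists_sub_mem_pow 1 z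
  refine Submodule.mem_sup.mpr ⟨φ g, ⟨g, rfl⟩, _, ?_, add_sub_cancel _ _⟩
  rw [pow_one] at hg
  rw [Ideal.smul_top_eq_map, Submodule.restrictScalars_mem,
    IsScalarTower.algebraMap_eq A (Cpl I P) (Cpl I P ⧸ q), ← Ideal.map_map]
  show Ideal.Quotient.mk q z - Ideal.Quotient.mk q (algebraMap P (Cpl I P) g) ∈ _
  rw [← map_sub]
  exact Ideal.mem_map_of_mem _ hg

theorem map_comap_eq_self : (q.comap (algebraMap P (Cpl I P))).map (algebraMap P (Cpl I P)) = q := by
  haveI : IsNoetherianRing P := Algebra.FiniteType.isNoetherianRing A P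
  haveI : IsNoetherianRing (Cpl I P) := isNoetherianRing_adicCompletion _
  haveI := isAdicComplete_cpl (I := I) (P := P)
  let q' : Ideal P := q.comap (algebraMap P (Cpl I P))
  refine le_antisymm Ideal.map_comap_le fun x hx => ?_
  let φ := (Ideal.Quotient.mkₐ A q).comp (IsScalarTower.toAlgHom A P (Cpl I P))
  haveI := isHausdorff_quotient (I := I) (q'.map (algebraMap P (Cpl I P)))
  refine Ideal.Quotient.eq_zero_iff_mem.mp (IsHausdorff.haus (I := I.map (algebraMap A (Cpl I P ⧸ q'.map (algebraMap P (Cpl I P))))) inferInstance _ fun k => ?_)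
  rw [SModEq.sub_mem, sub_zero, smul_eq_mul, Ideal.mul_top, ← Ideal.map_pow,
    IsScalarTower.algebraMap_eq A (Cpl I P) (Cpl I P ⧸ q'.map (algebraMap P (Cpl I P))), ← Ideal.map_map]
  obtain ⟨g, hg⟩ := exists_sub_mem_pow k x
  have h1 : φ g ∈ ((I ^ k).map (algebraMap A P)).map φ.toRingHom := by
    rw [Ideal.map_map, show φ.toRingHom.comp (algebraMap A P) = algebraMap A _ from φ.comp_algebraMap,
      IsScalarTower.algebraMap_eq A (Cpl I P) (Cpl I P ⧸ q), ← Ideal.map_map]
    have h0 : Ideal.Quotient.mk q (x - algebraMap P (Cpl I P) g) = - φ g := by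
      rw [map_sub, Ideal.Quotient.eq_zero_iff_mem.mpr hx, zero_sub]; rfl
    have h3 := Ideal.mem_map_of_mem (Ideal.Quotient.mk q) hg
    rw [h0, neg_mem_iff] at h3
    exact h3
  obtain ⟨g', hg', he⟩ := (Ideal.mem_map_iff_of_surjective _ (surjective_to_quotient q)).mp h1
  have hgq : g - g' ∈ q' := by
    show algebraMap P (Cpl I P) (g - g') ∈ q
    rw [← Ideal.Quotient.eq_zero_iff_mem]
    show φ (g - g') = 0
    rw [map_sub]
    exact sub_eq_zero.mpr he.symm
  have hx' : x = (x - algebraMap P (Cpl I P) g) + algebraMap P (Cpl I P) g' + algebraMap P (Cpl I P) (g - g') := by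
    rw [map_sub]; ring
  rw [hx', map_add, Ideal.Quotient.eq_zero_iff_mem.mpr (Ideal.mem_map_of_mem _ hgq), add_zero]
  refine Ideal.mem_map_of_mem _ (add_mem hg ?_)
  rw [IsScalarTower.algebraMap_eq A P (Cpl I P), ← Ideal.map_map]
  exact Ideal.mem_map_of_mem _ hg'

theorem mem_pow_of_algebraMap_mem (m : ℕ) (g : P) (hg : algebraMap P (Cpl I P) g ∈ q ^ m) :
    g ∈ q.comap (algebraMap P (Cpl I P)) ^ m := by
  let q' : Ideal P := q.comap (algebraMap P (Cpl I P))
  haveI : Module.Finite A (P ⧸ q') := Module.Finite.of_injective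
    (Ideal.quotientMapₐ q (IsScalarTower.toAlgHom A P (Cpl I P)) le_rfl).toLinearMap Ideal.quotientMap_injective
  haveI := finite_quotient_pow_ideal (A := A) q' m
  haveI : IsHausdorff I (P ⧸ q' ^ m) := IsHausdorff.of_le_jacobson I _ (IsAdicComplete.le_jacobson_bot I)
  rw [← map_comap_eq_self q, ← Ideal.map_pow] at hg
  refine Ideal.Quotient.eq_zero_iff_mem.mp (IsHausdorff.haus (I := I) inferInstance _ fun k => ?_)
  rw [SModEq.sub_mem, sub_zero, Ideal.smul_top_eq_map, Submodule.restrictScalars_mem,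
    IsScalarTower.algebraMap_eq A P (P ⧸ q' ^ m), ← Ideal.map_map, Ideal.map_pow]
  have h := Ideal.mem_map_of_mem (AdicCompletion.evalₐ (I.map (algebraMap A P)) k).toRingHom hg
  rw [Ideal.map_map, show (AdicCompletion.evalₐ (I.map (algebraMap A P)) k).toRingHom.comp (algebraMap P (Cpl I P)) =
    Ideal.Quotient.mk _ from RingHom.ext fun p => AdicCompletion.evalₐ_of _ k p] at h
  have h' : Ideal.Quotient.mk ((I.map (algebraMap A P)) ^ k) g ∈ (q' ^ m).map (Ideal.Quotient.mk ((I.map (algebraMap A P)) ^ k)) := by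
    have e : (AdicCompletion.evalₐ (I.map (algebraMap A P)) k).toRingHom (algebraMap P (Cpl I P) g) =
      Ideal.Quotient.mk _ g := AdicCompletion.evalₐ_of _ k g
    exact e ▸ h
  obtain ⟨g', hg', he⟩ := (Ideal.mem_map_iff_of_surjective _ Ideal.Quotient.mk_surjective).mp h'
  rw [Ideal.Quotient.eq] at he
  have h2 : Ideal.Quotient.mk (q' ^ m) g = - Ideal.Quotient.mk (q' ^ m) (g' - g) := by
    rw [map_sub, Ideal.Quotient.eq_zero_iff_mem.mpr hg', zero_sub, neg_neg]
  rw [h2, neg_mem_iff]
  exact Ideal.mem_map_of_mem _ he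

theorem exists_sub_algebraMap_mem_pow (m : ℕ) (y : Cpl I P) :
    ∃ g : P, y - algebraMap P (Cpl I P) g ∈ q ^ m := by
  haveI : IsNoetherianRing P := Algebra.FiniteType.isNoetherianRing A P
  haveI : IsNoetherianRing (Cpl I P) := isNoetherianRing_adicCompletion _
  haveI := isAdicComplete_cpl (I := I) (P := P)
  let q' : Ideal P := q.comap (algebraMap P (Cpl I P))
  haveI : Module.Finite A (P ⧸ q') := Module.Finite.of_injective
    (Ideal.quotientMapₐ q (IsScalarTower.toAlgHom A P (Cpl I P)) le_rfl).toLinearMap Ideal.quotientMap_injective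
  haveI := finite_quotient_pow_ideal (A := A) q' m
  let θ : (P ⧸ q' ^ m) →ₐ[A] (Cpl I P ⧸ q ^ m) :=
    Ideal.quotientMapₐ (q ^ m) (IsScalarTower.toAlgHom A P (Cpl I P)) (Ideal.le_comap_pow _ m)
  haveI : IsPrecomplete I (P ⧸ q' ^ m) := isPrecomplete_of_finite I
  haveI := isHausdorff_quotient (I := I) (q ^ m)
  haveI : IsHausdorff I (Cpl I P ⧸ q ^ m) := IsHausdorff.map_algebraMap_iff.mp this
  have hsurj : Function.Surjective θ.toLinearMap := by
    refine surjective_of_mkQ_comp_surjective (I := I) fun z => ?_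
    obtain ⟨z, rfl⟩ := Submodule.mkQ_surjective _ z
    obtain ⟨z, rfl⟩ := Ideal.Quotient.mk_surjective z
    obtain ⟨g, hg⟩ := exists_sub_mem_pow 1 z
    refine ⟨Ideal.Quotient.mk _ g, ?_⟩
    rw [LinearMap.comp_apply, Submodule.mkQ_apply, Submodule.mkQ_apply, Submodule.Quotient.eq,
      Ideal.smul_top_eq_map, Submodule.restrictScalars_mem, IsScalarTower.algebraMap_eq A (Cpl I P) (Cpl I P ⧸ q ^ m),
      ← Ideal.map_map]
    show Ideal.Quotient.mk (q ^ m) (algebraMap P (Cpl I P) g) - Ideal.Quotient.mk (q ^ m) z ∈ _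
    rw [← map_sub, ← neg_sub, map_neg, neg_mem_iff]
    exact Ideal.mem_map_of_mem _ (by rwa [pow_one] at hg)
  obtain ⟨w, hw⟩ := hsurj (Ideal.Quotient.mk _ y)
  obtain ⟨g, rfl⟩ := Ideal.Quotient.mk_surjective w
  exact ⟨g, Ideal.Quotient.eq.mp hw.symm⟩

end Groth.Agent.H24Adic
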