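import Groth.Agent.H24Adic.RigFibre
import Groth.Agent.H24Adic.CompletionRig
import Groth.Agent.H8Props.NLCx.Basic

/-!
Rig-flatness under completed base change.
-/

set_option autoImplicit false
set_option linter.style.haveILetI false

universe u

open Ideal TensorProduct

namespace Groth.Agent.H24Adic

/-- Flatness at a prime passes to polynomial rings. -/
theorem flat_map_mvPolynomial_at_prime {A B : Type u} [CommRing A] [CommRing B] (φ : A →+* B) (ι : Type u)
    (n : Ideal (MvPolynomial ι B)) [n.IsPrime]
    (h : ((algebraMap B (Localization.AtPrime (n.comap MvPolynomial.C))).comp φ).Flat) :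
    ((algebraMap (MvPolynomial ι B) (Localization.AtPrime n)).comp (MvPolynomial.map φ)).Flat := by
  let qB : Ideal B := n.comap MvPolynomial.C
  let Bq := Localization.AtPrime qB
  let Tn := Localization.AtPrime n
  let loc : Bq →+* Tn := IsLocalization.lift (M := qB.primeCompl) (S := Bq)
    (g := (algebraMap (MvPolynomial ι B) Tn).comp MvPolynomial.C)
    (fun y => IsLocalization.map_units Tn (⟨MvPolynomial.C (y : B), y.2⟩ : n.primeCompl))
  let v : MvPolynomial ι Bq →+* Tn := MvPolynomial.eval₂Hom loc (fun i => algebraMap (MvPolynomial ι B) Tn (MvPolynomial.X i))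
  let ι' : MvPolynomial ι B →+* MvPolynomial ι Bq := MvPolynomial.map (algebraMap B Bq)
  have hv : v.comp ι' = algebraMap (MvPolynomial ι B) Tn := MvPolynomial.ringHom_ext
    (fun b => by simp [v, ι', loc]) (fun i => by simp [v, ι'])
  let n' : Ideal (MvPolynomial ι Bq) := (IsLocalRing.maximalIdeal Tn).comap v
  have hn : n'.comap ι' = n := by
    show ((IsLocalRing.maximalIdeal Tn).comap v).comap ι' = n
    rw [Ideal.comap_comap, hv]
    exact Localization.AtPrime.comap_maximalIdeal
  letI : Algebra A Bq := ((algebraMap B Bq).comp φ).toAlgebra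
  haveI : Module.Flat A Bq := h
  have h1 : (MvPolynomial.map (σ := ι) ((algebraMap B Bq).comp φ)).Flat := H8Props.NLCx.flat_map ι
  have h2 : ι'.Flat := by
    haveI : Module.Flat B Bq := IsLocalization.flat _ qB.primeCompl
    exact H8Props.NLCx.flat_map (R := B) (R' := Bq) ι
  have h3 := flat_of_flat_at_prime (MvPolynomial.map φ) ι' h2 n' (by
    rw [show ι'.comp (MvPolynomial.map φ) = MvPolynomial.map ((algebraMap B Bq).comp φ) from
      RingHom.ext fun p => MvPolynomial.map_map φ (algebraMap B Bq) p]
    exact h1.comp (RingHom.flat_algebraMap_iff.mpr (IsLocalization.flat _ n'.primeCompl)))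
  have key : ∀ (J : Ideal (MvPolynomial ι B)) [J.IsPrime], J = n →
      ((algebraMap (MvPolynomial ι B) (Localization.AtPrime J)).comp (MvPolynomial.map φ)).Flat →
      ((algebraMap (MvPolynomial ι B) (Localization.AtPrime n)).comp (MvPolynomial.map φ)).Flat := by
    intro J _ e hJ
    subst e
    exact hJ
  exact key _ hn h3

/-- Flatness over a finite type algebra gives flatness over its completion at points with finite residue ring. -/
theorem flat_cpl_at_prime {A : Type u} [CommRing A] [IsNoetherianRing A] (I : Ideal A) [IsAdicComplete I A]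
    {P : Type u} [CommRing P] [Algebra A P] [Algebra.FiniteType A P] {T : Type u} [CommRing T] [IsNoetherianRing T]
    (τ : Cpl I P →+* T) (Q : Ideal T) [Q.IsPrime] [Module.Finite A (Cpl I P ⧸ Q.comap τ)]
    (hflat : ((algebraMap T (Localization.AtPrime Q)).comp (τ.comp (algebraMap P (Cpl I P)))).Flat) :
    ((algebraMap T (Localization.AtPrime Q)).comp τ).Flat := by
  haveI : IsNoetherianRing P := Algebra.FiniteType.isNoetherianRing A P
  haveI : IsNoetherianRing (Cpl I P) := isNoetherianRing_adicCompletion _
  let q : Ideal (Cpl I P) := Q.comap τ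
  let m : Ideal P := q.comap (algebraMap P (Cpl I P))
  let χ := Localization.localRingHom m q (algebraMap P (Cpl I P)) rfl
  let l := Localization.localRingHom q Q τ rfl
  letI := χ.toAlgebra
  letI := l.toAlgebra
  letI := (l.comp χ).toAlgebra
  haveI : IsScalarTower (Localization.AtPrime m) (Localization.AtPrime q) (Localization.AtPrime Q) :=
    IsScalarTower.of_algebraMap_eq fun _ => rfl
  haveI : IsLocalHom (algebraMap (Localization.AtPrime q) (Localization.AtPrime Q)) :=
    inferInstanceAs (IsLocalHom (Localization.localRingHom q Q τ rfl))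
  haveI : IsNoetherianRing (Localization.AtPrime q) := IsLocalization.isNoetherianRing q.primeCompl _ inferInstance
  haveI : IsNoetherianRing (Localization.AtPrime Q) := IsLocalization.isNoetherianRing Q.primeCompl _ inferInstance
  haveI : Module.Flat (Localization.AtPrime m) (Localization.AtPrime Q) := by
    show (l.comp χ).Flat
    rw [← Localization.localRingHom_comp m q Q (algebraMap P (Cpl I P)) rfl τ rfl]
    exact flat_localRingHom (τ.comp (algebraMap P (Cpl I P))) Q hflat
  have hmax : (IsLocalRing.maximalIdeal (Localization.AtPrime m)).map χ = IsLocalRing.maximalIdeal (Localization.AtPrime q) := by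
    rw [← Localization.AtPrime.map_eq_maximalIdeal (I := m), ← Localization.AtPrime.map_eq_maximalIdeal (I := q), Ideal.map_map,
      show χ.comp (algebraMap P (Localization.AtPrime m)) =
        (algebraMap (Cpl I P) (Localization.AtPrime q)).comp (algebraMap P (Cpl I P)) from
          RingHom.ext fun x => Localization.localRingHom_to_map m q _ rfl x,
      ← Ideal.map_map, map_comap_eq_self q]
  have hF : Module.Flat (Localization.AtPrime q) (Localization.AtPrime Q) := flat_of_map_maximalIdeal hmax
  rw [show (algebraMap T (Localization.AtPrime Q)).comp τ = l.comp (algebraMap (Cpl I P) (Localization.AtPrime q)) from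
    RingHom.ext fun d => (Localization.localRingHom_to_map q Q τ rfl d).symm]
  exact RingHom.Flat.comp (RingHom.flat_algebraMap_iff.mpr (IsLocalization.flat _ q.primeCompl)) hF

/-- Flatness at a prime passes to a cocartesian quotient. -/
theorem flat_quotient_at_prime {F C E D : Type u} [CommRing F] [CommRing C] [CommRing E] [CommRing D]
    (γ : F →+* E) (ρ : F →+* C) (hρ : Function.Surjective ρ) (π : E →+* D) (hπ : Function.Surjective π)
    (θ : C →+* D) (hsq : θ.comp ρ = π.comp γ) (hker : RingHom.ker π ≤ (RingHom.ker ρ).map γ) (q : Ideal D) [q.IsPrime]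
    (h : ((algebraMap E (Localization.AtPrime (q.comap π))).comp γ).Flat) :
    ((algebraMap D (Localization.AtPrime q)).comp θ).Flat := by
  let qE := q.comap π
  let T := Localization.AtPrime qE
  let Dq := Localization.AtPrime q
  let l : T →+* Dq := Localization.localRingHom qE q π rfl
  letI : Algebra F T := ((algebraMap E T).comp γ).toAlgebra
  letI : Algebra F C := ρ.toAlgebra
  letI : Algebra C Dq := ((algebraMap D Dq).comp θ).toAlgebra
  letI : Algebra F Dq := ((algebraMap C Dq).comp ρ).toAlgebra
  haveI : IsScalarTower F C Dq := IsScalarTower.of_algebraMap_eq fun _ => rfl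
  haveI : Module.Flat F T := h
  let lF : T →ₐ[F] Dq := { l with
    commutes' := fun r => (Localization.localRingHom_to_map qE q π rfl (γ r)).trans
      (congrArg (algebraMap D Dq) (RingHom.congr_fun hsq r).symm) }
  let Φ : C ⊗[F] T →ₐ[C] Dq := Algebra.TensorProduct.lift (Algebra.ofId C Dq) lF (fun _ _ => mul_comm _ _)
  have hone : ∀ z : C ⊗[F] T, ∃ t : T, z = 1 ⊗ₜ t := fun z => by
    induction z using TensorProduct.induction_on with
    | zero => exact ⟨0, (TensorProduct.tmul_zero _ _).symm⟩
    | tmul c t =>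
      obtain ⟨r, rfl⟩ := hρ c
      refine ⟨r • t, ?_⟩
      rw [← TensorProduct.smul_tmul, Algebra.smul_def, mul_one]
      rfl
    | add a b ha hb =>
      obtain ⟨s, rfl⟩ := ha
      obtain ⟨t, rfl⟩ := hb
      exact ⟨s + t, (TensorProduct.tmul_add _ _ _).symm⟩
  have hzero : ∀ t ∈ (RingHom.ker ρ).map (algebraMap F T), (1 : C) ⊗ₜ[F] t = 0 := by
    have hle : (RingHom.ker ρ).map (algebraMap F T) ≤
        RingHom.ker (Algebra.TensorProduct.includeRight : T →ₐ[F] C ⊗[F] T).toRingHom :=
      Ideal.map_le_iff_le_comap.mpr fun r hr => Ideal.mem_comap.mpr (RingHom.mem_ker.mpr (by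
        show (Algebra.TensorProduct.includeRight : T →ₐ[F] C ⊗[F] T) (algebraMap F T r) = 0
        rw [AlgHom.commutes, IsScalarTower.algebraMap_apply F C (C ⊗[F] T), show algebraMap F C r = 0 from hr, map_zero]))
    exact fun t ht => hle ht
  have hΦ : ∀ t, Φ ((1 : C) ⊗ₜ t) = l t := fun t => by simp [Φ, lF]
  have hlker : RingHom.ker l ≤ (RingHom.ker ρ).map (algebraMap F T) := fun t ht => by
    obtain ⟨x, s, rfl⟩ := IsLocalization.exists_mk'_eq qE.primeCompl t
    have h0 : algebraMap D Dq (π x) = 0 := by
      rw [← Localization.localRingHom_to_map qE q π rfl x]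
      show l (algebraMap E T x) = 0
      rw [← IsLocalization.mk'_spec T x s, map_mul, RingHom.mem_ker.mp ht, zero_mul]
    obtain ⟨⟨d, hd⟩, hdx⟩ := (IsLocalization.map_eq_zero_iff q.primeCompl Dq _).mp h0
    obtain ⟨e, rfl⟩ := hπ d
    have hex : e * x ∈ RingHom.ker π := by rw [RingHom.mem_ker, map_mul]; exact hdx
    rw [RingHom.algebraMap_toAlgebra ((algebraMap E T).comp γ), ← Ideal.map_map, IsLocalization.mk'_mem_map_algebraMap_iff qE.primeCompl]
    exact ⟨e, hd, hker hex⟩
  have hbij : Function.Bijective Φ := by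
    refine ⟨(injective_iff_map_eq_zero _).mpr fun z hz => ?_, fun y => ?_⟩
    · obtain ⟨t, rfl⟩ := hone z
      exact hzero t (hlker (RingHom.mem_ker.mpr ((hΦ t).symm.trans hz)))
    · obtain ⟨x, s, rfl⟩ := IsLocalization.exists_mk'_eq q.primeCompl y
      obtain ⟨x', rfl⟩ := hπ x
      obtain ⟨s', hs'⟩ := hπ s
      have hs'' : s' ∈ qE.primeCompl := fun hm => s.2 (hs' ▸ (hm : π s' ∈ q))
      refine ⟨1 ⊗ₜ IsLocalization.mk' T x' ⟨s', hs''⟩, ?_⟩
      rw [hΦ, Localization.localRingHom_mk']
      exact congrArg (IsLocalization.mk' Dq (π x')) (Subtype.ext hs')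
  exact Module.Flat.of_linearEquiv (AlgEquiv.ofBijective Φ hbij).toLinearEquiv.symm

/-- Flatness at points with finite residue ring is stable under completed base change. -/
theorem flat_at_completedTensor {A : Type u} [CommRing A] [IsNoetherianRing A] (I : Ideal A) [IsAdicComplete I A]
    {B C D : Type u} [CommRing B] [IsNoetherianRing B] [Algebra A B] [IsAdicComplete (I.map (algebraMap A B)) B]
    [CommRing C] [Algebra A C] [IsAdicComplete (I.map (algebraMap A C)) C]
    [CommRing D] [IsNoetherianRing D] [Algebra A D] [IsAdicComplete (I.map (algebraMap A D)) D]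
    (hftC : Algebra.FiniteType A (C ⧸ I.map (algebraMap A C))) (ρ : B →ₐ[A] D) (θ : C →ₐ[A] D)
    (hlift : ∀ (T : Type u) [CommRing T] [Algebra A T] [IsAdicComplete (I.map (algebraMap A T)) T] (u : B →ₐ[A] T)
      (v : C →ₐ[A] T), ∃ w : D →ₐ[A] T, w.comp ρ = u ∧ w.comp θ = v)
    (hext : ∀ (T : Type u) [CommRing T] [Algebra A T] [IsAdicComplete (I.map (algebraMap A T)) T] (w w' : D →ₐ[A] T),
      w.comp ρ = w'.comp ρ → w.comp θ = w'.comp θ → w = w')
    (q : Ideal D) [q.IsPrime] [Module.Finite A (D ⧸ q)]
    (hflatB : ((algebraMap B (Localization.AtPrime (q.comap ρ.toRingHom))).comp (algebraMap A B)).Flat) :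
    ((algebraMap D (Localization.AtPrime q)).comp θ.toRingHom).Flat := by
  classical
  obtain ⟨n, g0, hg0⟩ := Algebra.FiniteType.iff_quotient_mvPolynomial''.mp hftC
  choose c hc using fun i : Fin n => Ideal.Quotient.mk_surjective (g0 (MvPolynomial.X i))
  let ι : Type u := ULift.{u} (Fin n)
  let P := MvPolynomial ι A
  let PB := MvPolynomial ι B
  let F := Cpl I P
  let IB := I.map (algebraMap A B)
  let E := Cpl IB PB
  haveI : IsNoetherianRing E := isNoetherianRing_adicCompletion _
  haveI hEc : IsAdicComplete (IB.map (algebraMap B E)) E := isAdicComplete_cpl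
  have hIE : IB.map (algebraMap B E) = I.map (algebraMap A E) :=
    (Ideal.map_map _ _).trans (congrArg (fun g => Ideal.map g I) (IsScalarTower.algebraMap_eq A B E).symm)
  haveI : IsAdicComplete (I.map (algebraMap A E)) E := hIE ▸ hEc
  haveI : IsNoetherianRing F := isNoetherianRing_adicCompletion _
  haveI hFc : IsAdicComplete (I.map (algebraMap A F)) F := isAdicComplete_cpl
  obtain ⟨γ, hγ⟩ := exists_algHom I (MvPolynomial.aeval (fun i => algebraMap PB E (MvPolynomial.X i)) : P →ₐ[A] E)
  obtain ⟨G, hG⟩ := exists_algHom I (MvPolynomial.aeval (fun i : ι => c i.down) : P →ₐ[A] C)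
  letI : Algebra B D := ρ.toRingHom.toAlgebra
  haveI : IsScalarTower A B D := IsScalarTower.of_algebraMap_eq fun x => (ρ.commutes x).symm
  haveI : IsAdicComplete (IB.map (algebraMap B D)) D := by
    rw [Ideal.map_map, ← IsScalarTower.algebraMap_eq]; infer_instance
  obtain ⟨uB, huB⟩ := exists_algHom IB (MvPolynomial.aeval (fun i : ι => θ (c i.down)) : PB →ₐ[B] D)
  let u : E →ₐ[A] D := uB.restrictScalars A
  have hGs : Function.Surjective G := by
    have hmapG : (I.map (algebraMap A F)).map G.toRingHom = I.map (algebraMap A C) :=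
      (Ideal.map_map _ _).trans (congrArg (fun g => Ideal.map g I) G.comp_algebraMap)
    haveI : IsHausdorff ((I.map (algebraMap A F)).map G.toRingHom) C :=
      hmapG.symm ▸ (inferInstance : IsHausdorff (I.map (algebraMap A C)) C)
    refine surjective_of_mk_map_comp_surjective (I := I.map (algebraMap A F)) (f := G.toRingHom) fun y => ?_
    obtain ⟨y, rfl⟩ := Ideal.Quotient.mk_surjective y
    obtain ⟨p, hp⟩ := hg0 (Ideal.Quotient.mk _ y)
    let p' : P := MvPolynomial.rename ULift.up p
    refine ⟨algebraMap P F p', ?_⟩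
    have e : (Ideal.Quotient.mkₐ A (I.map (algebraMap A C))).comp
        ((MvPolynomial.aeval (fun i : ι => c i.down) : P →ₐ[A] C).comp (MvPolynomial.rename ULift.up)) = g0 :=
      MvPolynomial.algHom_ext fun i => by simp [hc i]
    show Ideal.Quotient.mk _ (G (algebraMap P F p')) = _
    rw [hG, Ideal.Quotient.eq, hmapG, ← Ideal.Quotient.eq]
    exact (AlgHom.congr_fun e p).trans hp
  have hFG : (I.map (algebraMap A P)).FG := IsNoetherian.noetherian _
  have hsq : θ.comp G = u.comp γ := by
    refine algHom_ext I hFG fun p => ?_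
    rw [AlgHom.comp_apply, AlgHom.comp_apply, hG, hγ]
    refine AlgHom.congr_fun (φ₁ := θ.comp (MvPolynomial.aeval (fun i : ι => c i.down)))
      (φ₂ := u.comp (MvPolynomial.aeval (fun i => algebraMap PB E (MvPolynomial.X i)))) (MvPolynomial.algHom_ext fun i => ?_) p
    show θ (MvPolynomial.aeval (fun i : ι => c i.down) (MvPolynomial.X i)) = uB (MvPolynomial.aeval _ (MvPolynomial.X i))
    rw [MvPolynomial.aeval_X, MvPolynomial.aeval_X, huB, MvPolynomial.aeval_X]
  let K : Ideal E := (RingHom.ker G.toRingHom).map γ.toRingHom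
  let E' := E ⧸ K
  haveI hE'c : IsAdicComplete (I.map (algebraMap A E')) E' :=
    ((Ideal.map_map _ _).trans (congrArg (fun g => Ideal.map g I) (IsScalarTower.algebraMap_eq A E E').symm) :
      (I.map (algebraMap A E)).map (Ideal.Quotient.mk K) = I.map (algebraMap A E')) ▸ isAdicComplete_map_quotient K
  let π : E →ₐ[A] E' := Ideal.Quotient.mkₐ A K
  have hKu' : K ≤ RingHom.ker u.toRingHom := Ideal.map_le_iff_le_comap.mpr fun y hy =>
    Ideal.mem_comap.mpr (RingHom.mem_ker.mpr ((AlgHom.congr_fun hsq y).symm.trans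
      ((congrArg θ (show G y = 0 from hy)).trans (map_zero θ))))
  have hKu : ∀ x ∈ K, u x = 0 := fun x hx => hKu' hx
  let v : C →ₐ[A] E' := G.liftOfSurjective hGs (π.comp γ) (fun y hy =>
    Ideal.Quotient.eq_zero_iff_mem.mpr (Ideal.mem_map_of_mem γ.toRingHom hy))
  let uE' : B →ₐ[A] E' := π.comp (IsScalarTower.toAlgHom A B E)
  obtain ⟨w, hwρ, hwθ⟩ := hlift E' uE' v
  have hvG : ∀ y, v (G y) = π (γ y) := fun y => AlgHom.liftOfSurjective_apply _ _ _ _ y
  have hwu : ∀ y, w (u y) = π y := by
    letI : Algebra B E' := Ideal.Quotient.algebra B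
    haveI : IsHausdorff (IB.map (algebraMap B E')) E' :=
      ((Ideal.map_map _ _).trans (congrArg (fun g => Ideal.map g I) (IsScalarTower.algebraMap_eq A B E').symm) :
        IB.map (algebraMap B E') = I.map (algebraMap A E')).symm ▸ hE'c.toIsHausdorff
    let wB : E →ₐ[B] E' := { (w.comp u).toRingHom with
      commutes' := fun b => by
        show w (uB (algebraMap B E b)) = _
        rw [uB.commutes]
        exact AlgHom.congr_fun hwρ b }
    have e : wB = Ideal.Quotient.mkₐ B K := algHom_ext IB (IsNoetherian.noetherian _) fun p => by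
      refine AlgHom.congr_fun (φ₁ := wB.comp (IsScalarTower.toAlgHom B PB E))
        (φ₂ := (Ideal.Quotient.mkₐ B K).comp (IsScalarTower.toAlgHom B PB E)) (MvPolynomial.algHom_ext fun i => ?_) p
      show w (uB (algebraMap PB E (MvPolynomial.X i))) = Ideal.Quotient.mk K (algebraMap PB E (MvPolynomial.X i))
      have h1 := hvG (algebraMap P F (MvPolynomial.X i))
      rw [hG, hγ, MvPolynomial.aeval_X, MvPolynomial.aeval_X] at h1
      rw [huB, MvPolynomial.aeval_X]
      exact (AlgHom.congr_fun hwθ _).trans h1
    exact fun y => AlgHom.congr_fun e y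
  let u' : E' →ₐ[A] D := Ideal.Quotient.liftₐ K u hKu
  have hu'w : u'.comp w = AlgHom.id A D := by
    refine hext D _ _ (AlgHom.ext fun b => ?_) (AlgHom.ext fun x => ?_)
    · show u' (w (ρ b)) = ρ b
      rw [show w (ρ b) = uE' b from AlgHom.congr_fun hwρ b]
      exact uB.commutes b
    · obtain ⟨y, rfl⟩ := hGs x
      show u' (w (θ (G y))) = θ (G y)
      rw [show w (θ (G y)) = v (G y) from AlgHom.congr_fun hwθ _, hvG]
      exact (AlgHom.congr_fun hsq y).symm
  have hus : Function.Surjective u := fun d => by
    obtain ⟨y, hy⟩ := Ideal.Quotient.mk_surjective (w d)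
    exact ⟨y, by have := AlgHom.congr_fun hu'w d; rw [AlgHom.comp_apply, ← hy] at this; exact this⟩
  have hker : RingHom.ker u.toRingHom ≤ K := fun y hy =>
    Ideal.Quotient.eq_zero_iff_mem.mp ((hwu y).symm.trans (by rw [show u y = 0 from hy, map_zero]))
  refine flat_quotient_at_prime γ.toRingHom G.toRingHom hGs u.toRingHom hus θ.toRingHom
    (congrArg AlgHom.toRingHom hsq) hker q ?_
  let Q : Ideal E := q.comap u.toRingHom
  haveI : Module.Finite A (E ⧸ Q) := Module.Finite.of_injective
    (Ideal.quotientMapₐ q u (le_refl _)).toLinearMap Ideal.quotientMap_injective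
  haveI : Module.Finite A (F ⧸ Q.comap γ.toRingHom) := Module.Finite.of_injective
    (Ideal.quotientMapₐ Q γ (le_refl _)).toLinearMap Ideal.quotientMap_injective
  refine flat_cpl_at_prime I γ.toRingHom Q ?_
  have hγP : γ.toRingHom.comp (algebraMap P F) = (algebraMap PB E).comp (MvPolynomial.map (algebraMap A B)) :=
    MvPolynomial.ringHom_ext (fun a => by
      show γ (algebraMap P F (MvPolynomial.C a)) = algebraMap PB E (MvPolynomial.map (algebraMap A B) (MvPolynomial.C a))
      rw [hγ, MvPolynomial.aeval_C, MvPolynomial.map_C]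
      exact IsScalarTower.algebraMap_apply A PB E a) (fun i => by
      show γ (algebraMap P F (MvPolynomial.X i)) = algebraMap PB E (MvPolynomial.map (algebraMap A B) (MvPolynomial.X i))
      rw [hγ, MvPolynomial.aeval_X, MvPolynomial.map_X])
  rw [hγP]
  have hn : (Q.comap (algebraMap PB E)).comap MvPolynomial.C = q.comap ρ.toRingHom := by
    ext b
    show uB (algebraMap PB E (MvPolynomial.C b)) ∈ q ↔ ρ b ∈ q
    rw [huB, MvPolynomial.aeval_C]
    rfl
  refine flat_comp_at_prime _ _ Q (flat_map_mvPolynomial_at_prime _ ι _ ?_) ?_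
  · have key : ∀ (J J' : Ideal B) [J.IsPrime] [J'.IsPrime], J = J' →
        ((algebraMap B (Localization.AtPrime J')).comp (algebraMap A B)).Flat →
        ((algebraMap B (Localization.AtPrime J)).comp (algebraMap A B)).Flat := by
      intro J J' _ _ e h
      subst e
      exact h
    exact key _ _ hn hflatB
  · exact RingHom.Flat.comp (RingHom.flat_algebraMap_iff.mpr (AdicCompletion.flat_of_isNoetherian (IB.map (algebraMap B PB))))
      (RingHom.flat_algebraMap_iff.mpr (IsLocalization.flat _ Q.primeCompl))

end Groth.Agent.H24Adic
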