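import Groth.Agent.H3CAlg.ElkikPrincipal
import Groth.Agent.H9Hens.PairOps

/-!
Lifting points of algebras which are etale outside the ideal along henselian pairs.
-/

set_option autoImplicit false
set_option linter.style.haveILetI false

universe u

open TensorProduct Ideal

namespace Groth.Agent.H24Adic

/-- Base change of an algebra etale after inverting `a` is etale after inverting `a`. -/
theorem etale_away_tensor {A B R : Type u} [CommRing A] [CommRing B] [CommRing R] [Algebra A B] [Algebra A R] (a : A)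
    [Algebra.Etale A (Localization.Away (algebraMap A B a))] :
    Algebra.Etale R (Localization.Away (algebraMap A (R ⊗[A] B) a)) := by
  let Ba := Localization.Away (algebraMap A B a)
  let L := Localization.Away (algebraMap A (R ⊗[A] B) a)
  let ι : B →ₐ[A] L := (IsScalarTower.toAlgHom A (R ⊗[A] B) L).comp Algebra.TensorProduct.includeRight
  have hι : ∀ y : Submonoid.powers (algebraMap A B a), IsUnit (ι y) := fun ⟨_, k, hk⟩ => by
    subst hk
    show IsUnit (ι (algebraMap A B a ^ k))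
    rw [map_pow, ι.commutes, IsScalarTower.algebraMap_apply A (R ⊗[A] B) L]
    exact (IsLocalization.Away.algebraMap_isUnit (S := L) _).pow k
  let ψ : Ba →ₐ[A] L := IsLocalization.liftAlgHom (M := Submonoid.powers (algebraMap A B a)) (S := Ba) (f := ι) hι
  have hψ : ∀ b : B, ψ (algebraMap B Ba b) = ι b := fun b => IsLocalization.lift_eq (M := Submonoid.powers (algebraMap A B a)) hι b
  let F : R ⊗[A] Ba →ₐ[R] L :=
    Algebra.TensorProduct.lift (Algebra.ofId R L) ψ fun _ _ => mul_comm _ _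
  let g : R ⊗[A] B →ₐ[R] R ⊗[A] Ba :=
    Algebra.TensorProduct.map (AlgHom.id R R) (IsScalarTower.toAlgHom A B Ba)
  have hg : ∀ y : Submonoid.powers (algebraMap A (R ⊗[A] B) a), IsUnit (g y) := fun ⟨_, k, hk⟩ => by
    subst hk
    show IsUnit (g (algebraMap A (R ⊗[A] B) a ^ k))
    rw [map_pow, show g (algebraMap A (R ⊗[A] B) a) = algebraMap A (R ⊗[A] Ba) a from (g.restrictScalars A).commutes a]
    refine IsUnit.pow k ?_
    rw [← (Algebra.TensorProduct.includeRight : Ba →ₐ[A] R ⊗[A] Ba).commutes a,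
      IsScalarTower.algebraMap_apply A B Ba]
    exact (IsLocalization.Away.algebraMap_isUnit (S := Ba) _).map _
  let G : L →ₐ[R] R ⊗[A] Ba := IsLocalization.liftAlgHom (M := Submonoid.powers (algebraMap A (R ⊗[A] B) a)) (S := L) (f := g) hg
  have hG : ∀ x, G (algebraMap (R ⊗[A] B) L x) = g x := fun x =>
    IsLocalization.lift_eq (M := Submonoid.powers (algebraMap A (R ⊗[A] B) a)) hg x
  have hFG : F.comp G = AlgHom.id R L := by
    apply AlgHom.coe_ringHom_injective
    refine IsLocalization.ringHom_ext (Submonoid.powers (algebraMap A (R ⊗[A] B) a)) (RingHom.ext fun x => ?_)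
    show F (G (algebraMap _ L x)) = algebraMap _ L x
    rw [hG]
    refine AlgHom.congr_fun (φ₁ := F.comp g) (φ₂ := IsScalarTower.toAlgHom R (R ⊗[A] B) L) (Algebra.TensorProduct.ext
      (Algebra.ext_id _ _ _) (AlgHom.ext fun b => ?_)) x
    show F (1 ⊗ₜ algebraMap B Ba b) = ι b
    rw [Algebra.TensorProduct.lift_tmul, map_one, one_mul, hψ]
  have hGF : G.comp F = AlgHom.id R _ := Algebra.TensorProduct.ext (Algebra.ext_id _ _ _) (by
    apply AlgHom.coe_ringHom_injective
    refine IsLocalization.ringHom_ext (Submonoid.powers (algebraMap A B a)) (RingHom.ext fun b => ?_)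
    show G (F (1 ⊗ₜ algebraMap B Ba b)) = 1 ⊗ₜ algebraMap B Ba b
    rw [Algebra.TensorProduct.lift_tmul, map_one, one_mul, hψ]
    exact hG _)
  exact Algebra.Etale.of_equiv (AlgEquiv.ofAlgHom F G hFG hGF)

/-- Power torsion is bounded in a Noetherian ring. -/
theorem exists_torsion_bound {R : Type u} [CommRing R] [IsNoetherianRing R] (t : R) :
    ∃ N : ℕ, ∀ x : R, (∃ m : ℕ, t ^ m * x = 0) → t ^ N * x = 0 := by
  let K : ℕ →o Ideal R := ⟨fun n => LinearMap.ker (LinearMap.mulLeft R (t ^ n)), fun a b hab x hx => by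
    obtain ⟨d, rfl⟩ := Nat.exists_eq_add_of_le hab
    rw [LinearMap.mem_ker, LinearMap.mulLeft_apply] at hx ⊢
    rw [pow_add, mul_right_comm, hx, zero_mul]⟩
  obtain ⟨N, hN⟩ := monotone_stabilizes_iff_noetherian.mpr (inferInstance : IsNoetherian R R) K
  refine ⟨N, fun x ⟨m, hm⟩ => ?_⟩
  have h1 : x ∈ K (max N m) := K.monotone (le_max_right N m) (show x ∈ K m by
    show x ∈ LinearMap.ker _
    rw [LinearMap.mem_ker, LinearMap.mulLeft_apply]; exact hm)
  rw [← hN _ (le_max_left N m)] at h1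
  exact LinearMap.mem_ker.mp h1

/-- An algebra unramified after inverting `a` has an idempotent diagonal ideal up to a power of `a`. -/
theorem exists_pow_mul_mem_sq {A B : Type u} [CommRing A] [CommRing B] [Algebra A B] [Algebra.FiniteType A B] (a : A)
    [Algebra.FormallyUnramified A (Localization.Away (algebraMap A B a))] :
    ∃ c : ℕ, ∀ x ∈ KaehlerDifferential.ideal A B, algebraMap A (B ⊗[A] B) a ^ c * x ∈ KaehlerDifferential.ideal A B ^ 2 := by
  classical
  let Ba := Localization.Away (algebraMap A B a)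
  haveI : Subsingleton Ω[Ba⁄A] := inferInstance
  have hkill : ∀ ω : Ω[B⁄A], ∃ c : ℕ, a ^ c • ω = 0 := fun ω => by
    obtain ⟨⟨_, k, rfl⟩, hk⟩ := (IsLocalizedModule.eq_zero_iff (Submonoid.powers (algebraMap A B a))
      (KaehlerDifferential.map A A B Ba) (m := ω)).mp (Subsingleton.elim _ _)
    refine ⟨k, ?_⟩
    rw [← algebraMap_smul B (a ^ k) ω, map_pow]
    exact hk
  obtain ⟨S, hS⟩ := (Module.Finite.fg_top : (⊤ : Submodule B Ω[B⁄A]).FG)
  choose k hk using hkill
  refine ⟨S.sup k, fun x hx => ?_⟩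
  have hall : ∀ ω : Ω[B⁄A], a ^ S.sup k • ω = 0 := fun ω => by
    refine Submodule.span_induction (p := fun ω _ => a ^ S.sup k • ω = 0) ?_ (smul_zero _) ?_ ?_
      (hS ▸ Submodule.mem_top : ω ∈ Submodule.span B (S : Set Ω[B⁄A]))
    · intro s hs
      obtain ⟨d, hd⟩ := Nat.exists_eq_add_of_le (Finset.le_sup (f := k) hs)
      rw [hd, add_comm, pow_add, mul_smul, hk, smul_zero]
    · intro x y _ _ hx hy
      rw [smul_add, hx, hy, add_zero]
    · intro b x _ hx
      rw [smul_comm, hx, smul_zero]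
  have h1 : (KaehlerDifferential.ideal A B).toCotangent (a ^ S.sup k • ⟨x, hx⟩ : KaehlerDifferential.ideal A B) = 0 := by
    rw [LinearMap.map_smul_of_tower]
    exact hall _
  rw [Ideal.toCotangent_eq_zero] at h1
  rwa [Submodule.coe_smul_of_tower, Algebra.smul_def, map_pow] at h1

/-- Two points congruent modulo a high power of `t` agree. -/
theorem exists_rigidity {A B R : Type u} [CommRing A] [CommRing B] [CommRing R] [Algebra A B] [Algebra.FiniteType A B]
    [Algebra A R] [IsNoetherianRing R] (a : A) (hjac : algebraMap A R a ∈ Ideal.jacobson (⊥ : Ideal R))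
    [Algebra.FormallyUnramified A (Localization.Away (algebraMap A B a))] :
    ∃ M : ℕ, ∀ g g' : B →ₐ[A] R, (∀ b, g b - g' b ∈ Ideal.span {algebraMap A R a} ^ M) → g = g' := by
  obtain ⟨c, hc⟩ := exists_pow_mul_mem_sq (B := B) a
  obtain ⟨N, hN⟩ := exists_torsion_bound (algebraMap A R a)
  let t := algebraMap A R a
  refine ⟨c + N + 1, fun g g' hgg => ?_⟩
  rw [Ideal.span_singleton_pow] at hgg
  let h : B ⊗[A] B →ₐ[A] R := Algebra.TensorProduct.lift g' g fun _ _ => mul_comm _ _
  let L := (KaehlerDifferential.ideal A B).map h.toRingHom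
  have hgen : ∀ b, g b - g' b ∈ L := fun b => by
    have hm : (1 : B) ⊗ₜ[A] b - b ⊗ₜ[A] (1 : B) ∈ KaehlerDifferential.ideal A B :=
      KaehlerDifferential.one_smul_sub_smul_one_mem_ideal A b
    have := Ideal.mem_map_of_mem h.toRingHom hm
    rw [map_sub] at this
    simpa [h, L] using this
  have hLM : L ≤ Ideal.span {t ^ (c + N + 1)} := by
    show Ideal.map _ _ ≤ _
    rw [← KaehlerDifferential.span_range_eq_ideal, Ideal.map_span, Ideal.span_le]
    rintro _ ⟨_, ⟨b, rfl⟩, rfl⟩
    show h (_ - _) ∈ _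
    simpa [h] using hgg b
  have hc' : Ideal.span {t ^ c} * L ≤ L ^ 2 := by
    rw [Ideal.span_singleton_mul_le_iff]
    intro z hz
    have hcm : (Ideal.span {algebraMap A (B ⊗[A] B) a ^ c} * KaehlerDifferential.ideal A B).map h.toRingHom ≤
        (KaehlerDifferential.ideal A B ^ 2).map h.toRingHom :=
      Ideal.map_mono (Ideal.span_singleton_mul_le_iff.mpr fun x hx => hc x hx)
    rw [Ideal.map_mul, Ideal.map_pow, Ideal.map_span, Set.image_singleton] at hcm
    refine (Ideal.span_singleton_mul_le_iff.mp (hcm.trans_eq' ?_)) z hz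
    rw [map_pow, show h.toRingHom (algebraMap A (B ⊗[A] B) a) = t from h.commutes a]
  have h2 : Ideal.span {t ^ c} * L ≤ Ideal.span {t ^ (N + 1)} * (Ideal.span {t ^ c} * L) := by
    refine hc'.trans ?_
    rw [sq, ← mul_assoc, Ideal.span_singleton_mul_span_singleton, ← pow_add, show N + 1 + c = c + N + 1 by omega]
    exact Ideal.mul_mono_left hLM
  have hsub : Ideal.span {t ^ (N + 1)} ≤ Ideal.jacobson (⊥ : Ideal R) := by
    rw [Ideal.span_singleton_le_iff_mem, pow_succ]
    exact Ideal.mul_mem_left _ _ hjac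
  have h0 : Ideal.span {t ^ c} * L = ⊥ :=
    Submodule.eq_bot_of_le_smul_of_le_jacobson_bot _ _ (IsNoetherian.noetherian _) h2 hsub
  refine AlgHom.ext fun b => sub_eq_zero.mp ?_
  obtain ⟨y, hy⟩ := Ideal.mem_span_singleton'.mp (hLM (hgen b))
  have h3 : t ^ c * (g b - g' b) ∈ Ideal.span {t ^ c} * L :=
    Ideal.mul_mem_mul (Ideal.mem_span_singleton_self _) (hgen b)
  rw [h0, Ideal.mem_bot, ← hy, mul_comm y, ← mul_assoc, ← pow_add] at h3
  have h4 := hN y ⟨_, h3⟩
  rw [← hy, show c + N + 1 = (c + 1) + N by omega, pow_add, mul_comm y, mul_assoc, h4, mul_zero]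

/-- A compatible system of points modulo powers of one element comes from a point. -/
theorem exists_lift_principal {A B R : Type u} [CommRing A] [CommRing B] [CommRing R] [Algebra A B]
    [Algebra.FiniteType A B] [Algebra A R] [IsNoetherianRing R] (a : A)
    [HenselianRing R (Ideal.span {algebraMap A R a})] [Algebra.Etale A (Localization.Away (algebraMap A B a))]
    (τ : ∀ k, B →ₐ[A] R ⧸ Ideal.span {algebraMap A R a} ^ k)
    (hτ : ∀ {m n : ℕ} (hle : m ≤ n), (Ideal.Quotient.factorₐ A (Ideal.pow_le_pow_right hle)).comp (τ n) = τ m) :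
    ∃ ψ : B →ₐ[A] R, ∀ k, (Ideal.Quotient.mkₐ A _).comp ψ = τ k := by
  let t := algebraMap A R a
  let J : Ideal R := Ideal.span {t}
  let B' := R ⊗[A] B
  haveI : Algebra.FiniteType R B' := inferInstance
  let τ' : ∀ k, B' →ₐ[R] R ⧸ J ^ k := fun k =>
    Algebra.TensorProduct.lift (Algebra.ofId R _) (τ k) fun _ _ => mul_comm _ _
  have hτ' : ∀ {m n : ℕ} (hle : m ≤ n), (Ideal.Quotient.factorₐ R (Ideal.pow_le_pow_right hle)).comp (τ' n) = τ' m := by
    intro m n hle
    refine Algebra.TensorProduct.ext (Algebra.ext_id _ _ _) (AlgHom.ext fun b => ?_)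
    show Ideal.Quotient.factorₐ R (Ideal.pow_le_pow_right hle) (τ' n (1 ⊗ₜ b)) = τ' m (1 ⊗ₜ b)
    show Ideal.Quotient.factor (Ideal.pow_le_pow_right hle) (algebraMap R _ 1 * τ n b) = algebraMap R _ 1 * τ m b
    rw [map_one, map_one, one_mul, one_mul]
    exact AlgHom.congr_fun (hτ hle) b
  let σ : B' →ₐ[R] AdicCompletion J R := AdicCompletion.liftAlgHom J τ' hτ'
  let aB' := algebraMap A B' a
  let BT := Localization.Away aB'
  let T := Localization.Away t
  have hat : algebraMap R B' t = aB' := (IsScalarTower.algebraMap_apply A R B' a).symm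
  have hunit : IsUnit (algebraMap R BT t) := by
    rw [IsScalarTower.algebraMap_apply R B' BT, hat]
    exact IsLocalization.Away.algebraMap_isUnit aB'
  letI : Algebra T BT := (IsLocalization.Away.lift t hunit).toAlgebra
  haveI : IsScalarTower R T BT := IsScalarTower.of_algebraMap_eq fun x => (IsLocalization.Away.lift_eq t hunit x).symm
  haveI : Algebra.Etale R BT := etale_away_tensor a
  haveI : Algebra.FormallyEtale R T := Algebra.FormallyEtale.of_isLocalization (Submonoid.powers t)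
  haveI : Algebra.Etale R T := Algebra.Etale.of_isLocalizationAway t
  haveI : Algebra.Etale T BT := Algebra.Etale.of_restrictScalars R T BT
  haveI : IsLocalization (Algebra.algebraMapSubmonoid B' (Submonoid.powers t)) BT := by
    rw [show Algebra.algebraMapSubmonoid B' (Submonoid.powers t) = Submonoid.powers aB' by
      rw [Algebra.algebraMapSubmonoid, Submonoid.map_powers, hat]]
    infer_instance
  obtain ⟨N, hN⟩ := exists_torsion_bound t
  haveI : Algebra.FormallyUnramified A (Localization.Away (algebraMap A B a)) := inferInstance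
  obtain ⟨M, hM⟩ := exists_rigidity (B := B) (R := R) a
    (HenselianRing.jac (I := Ideal.span {algebraMap A R a}) (Ideal.mem_span_singleton_self _))
  have hex : ∀ k, ∃ g : B →ₐ[A] R, (Ideal.Quotient.mkₐ A (J ^ k)).comp g = τ k := fun k => by
    obtain ⟨g, hg⟩ := H3CAlg.ElkikPrincipal.main (T := T) t hN (BT := BT) inferInstance k σ
    refine ⟨(g.restrictScalars A).comp Algebra.TensorProduct.includeRight, AlgHom.ext fun b => ?_⟩
    have h1 := AlgHom.congr_fun hg ((1 : R) ⊗ₜ[A] b)
    rw [AlgHom.comp_apply, AlgHom.comp_apply, AdicCompletion.evalₐ_liftAlgHom] at h1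
    show Ideal.Quotient.mk _ (g (1 ⊗ₜ b)) = _
    rw [Ideal.Quotient.mkₐ_eq_mk] at h1
    rw [h1]
    show algebraMap R _ 1 * τ k b = τ k b
    rw [map_one, one_mul]
  choose g hg using hex
  refine ⟨g M, fun k => ?_⟩
  have hfac : ∀ {m n : ℕ} (hle : m ≤ n), (Ideal.Quotient.mkₐ A (J ^ m)).comp (g n) = τ m := fun {m n} hle => by
    rw [← hτ hle, ← hg n, ← AlgHom.comp_assoc]
    rfl
  have he : g M = g (max k M) := hM _ _ fun b => by
    rw [← Ideal.Quotient.eq]
    exact (AlgHom.congr_fun (hfac le_rfl) b).trans (AlgHom.congr_fun (hfac (le_max_right k M)) b).symm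
  rw [he]
  exact hfac (le_max_left _ _)

/-- Points modulo all powers of the ideal of an algebra etale outside it lift along henselian pairs. -/
theorem existsUnique_lift_system {A B : Type u} [CommRing A] [CommRing B] [Algebra A B] [Algebra.FiniteType A B]
    (I : Ideal A) (hB : ∀ a ∈ I, Algebra.Etale A (Localization.Away (algebraMap A B a))) :
    ∀ (r : ℕ) (s : Fin r → A), (∀ i, s i ∈ I) → ∀ (R : Type u) [CommRing R] [Algebra A R] [IsNoetherianRing R]
      (J : Ideal R), J = Ideal.span (Set.range (algebraMap A R ∘ s)) → HenselianRing R J →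
      ∀ σ : ∀ n, B →ₐ[A] R ⧸ J ^ n,
        (∀ {m n : ℕ} (hle : m ≤ n), (Ideal.Quotient.factorₐ A (Ideal.pow_le_pow_right hle)).comp (σ n) = σ m) →
        ∃ ψ : B →ₐ[A] R, ∀ n, (Ideal.Quotient.mkₐ A (J ^ n)).comp ψ = σ n := by
  intro r
  induction r with
  | zero =>
    intro s _ R _ _ _ J hJ _ σ hσ
    have hJ0 : J = ⊥ := by rw [hJ, Set.range_eq_empty, Ideal.span_empty]
    let π : R →ₐ[A] R ⧸ J ^ 1 := Ideal.Quotient.mkₐ A _
    have hπ : Function.Bijective π := ⟨(injective_iff_map_eq_zero _).mpr fun x hx => by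
      have := Ideal.Quotient.eq_zero_iff_mem.mp hx
      rwa [pow_one, hJ0, Ideal.mem_bot] at this, Ideal.Quotient.mk_surjective⟩
    refine ⟨((AlgEquiv.ofBijective π hπ).symm : R ⧸ J ^ 1 →ₐ[A] R).comp (σ 1), fun n => AlgHom.ext fun b => ?_⟩
    let z := (AlgEquiv.ofBijective π hπ).symm (σ 1 b)
    have hz : Ideal.Quotient.mk (J ^ 1) z = σ 1 b := (AlgEquiv.ofBijective π hπ).apply_symm_apply _
    show Ideal.Quotient.mk (J ^ n) z = σ n b
    rcases Nat.eq_zero_or_pos n with rfl | hn
    · exact (Ideal.Quotient.subsingleton_iff.mpr (by rw [pow_zero, Ideal.one_eq_top])).elim _ _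
    · obtain ⟨w, hw⟩ := Ideal.Quotient.mk_surjective (σ n b)
      have h1 := AlgHom.congr_fun (hσ hn) b
      rw [AlgHom.comp_apply, ← hw] at h1
      have h2 : w = z := hπ.1 (h1.trans hz.symm)
      rw [← hw, h2]
  | succ r ih =>
    intro s hs R _ _ _ J hJ hHens σ hσ
    haveI := hHens
    let t := algebraMap A R (s 0)
    let s' : Fin r → A := fun i => s i.succ
    let J' := Ideal.span (Set.range (algebraMap A R ∘ s'))
    have hJ' : J' ≤ J := by
      rw [hJ]
      exact Ideal.span_mono (Set.range_comp_subset_range Fin.succ (algebraMap A R ∘ s))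
    have htJ : Ideal.span {t} ≤ J := by
      rw [hJ, Ideal.span_singleton_le_iff_mem]
      exact Ideal.subset_span ⟨0, rfl⟩
    have hsup : J ≤ Ideal.span {t} ⊔ J' := by
      rw [hJ, Ideal.span_le]
      rintro _ ⟨i, rfl⟩
      refine Fin.cases ?_ (fun j => ?_) i
      · exact Submodule.mem_sup_left (Ideal.mem_span_singleton_self _)
      · exact Submodule.mem_sup_right (Ideal.subset_span ⟨j, rfl⟩)
    haveI : HenselianRing R J' := H9Hens.henselianRing_of_le hJ'
    haveI : HenselianRing R (Ideal.span {t}) := H9Hens.henselianRing_of_le htJ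
    let Q := fun k : ℕ => R ⧸ Ideal.span {t} ^ k
    let JQ := fun k : ℕ => J'.map (Ideal.Quotient.mk (Ideal.span {t} ^ k))
    have hpow : ∀ k n : ℕ, J ^ (k + n) ≤ Ideal.span {t} ^ k ⊔ J' ^ n := fun k n =>
      ((Ideal.pow_right_mono hsup _).trans (Ideal.sup_pow_add_le_pow_sup_pow))
    have hker : ∀ k n : ℕ, ∀ x ∈ J ^ (k + n), Ideal.Quotient.mk (JQ k ^ n) (Ideal.Quotient.mk (Ideal.span {t} ^ k) x) = 0 := by
      intro k n x hx
      obtain ⟨y, hy, z, hz, rfl⟩ := Submodule.mem_sup.mp (hpow k n hx)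
      rw [map_add, Ideal.Quotient.eq_zero_iff_mem.mpr hy, zero_add, Ideal.Quotient.eq_zero_iff_mem, ← Ideal.map_pow]
      exact Ideal.mem_map_of_mem _ hz
    let μ : ∀ k n, R ⧸ J ^ (k + n) →ₐ[A] Q k ⧸ JQ k ^ n := fun k n =>
      Ideal.Quotient.liftₐ _ ((Ideal.Quotient.mkₐ A _).comp (Ideal.Quotient.mkₐ A _)) (hker k n)
    have hμσ : ∀ k n m, k + n ≤ m → ∀ b x, σ m b = Ideal.Quotient.mk (J ^ m) x →
        μ k n (σ (k + n) b) = Ideal.Quotient.mk (JQ k ^ n) (Ideal.Quotient.mk (Ideal.span {t} ^ k) x) := by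
      intro k n m hm b x hx
      rw [← hσ hm, AlgHom.comp_apply, hx]
      rfl
    have hstep : ∀ k, ∃ ψ : B →ₐ[A] Q k, ∀ n, (Ideal.Quotient.mkₐ A (JQ k ^ n)).comp ψ = (μ k n).comp (σ (k + n)) := by
      intro k
      refine ih s' (fun i => hs i.succ) (Q k) (JQ k) ?_ (H9Hens.henselianRing_quotient (J := J') _) _ ?_
      · show J'.map _ = _
        rw [Ideal.map_span, ← Set.range_comp]
        rfl
      · intro m n hle
        refine AlgHom.ext fun b => ?_
        obtain ⟨x, hx⟩ := Ideal.Quotient.mk_surjective (σ (k + n) b)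
        show Ideal.Quotient.factor (Ideal.pow_le_pow_right hle) (μ k n (σ (k + n) b)) = μ k m (σ (k + m) b)
        rw [hμσ k n _ le_rfl b x hx.symm, hμσ k m _ (by omega) b x hx.symm, Ideal.Quotient.factor_mk]
    choose ψ hψ using hstep
    have hcomp : ∀ {k l : ℕ} (hle : k ≤ l), (Ideal.Quotient.factorₐ A (Ideal.pow_le_pow_right hle)).comp (ψ l) = ψ k := by
      intro k l hle
      refine AlgHom.ext fun b => sub_eq_zero.mp ?_
      haveI : HenselianRing (Q k) (JQ k) := H9Hens.henselianRing_quotient (J := J') _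
      haveI : IsHausdorff (JQ k) (Q k) :=
        IsHausdorff.of_le_jacobson _ _ (HenselianRing.jac (R := Q k) (I := JQ k))
      refine IsHausdorff.haus (I := JQ k) inferInstance _ fun n => ?_
      rw [SModEq.sub_mem, sub_zero, smul_eq_mul, Ideal.mul_top, ← Ideal.Quotient.eq]
      obtain ⟨x, hx⟩ := Ideal.Quotient.mk_surjective (σ (l + n) b)
      obtain ⟨y, hy⟩ := Ideal.Quotient.mk_surjective (ψ l b)
      have h1 : Ideal.Quotient.mk (JQ l ^ n) (ψ l b) = μ l n (σ (l + n) b) := AlgHom.congr_fun (hψ l n) b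
      rw [hμσ l n _ le_rfl b x hx.symm, ← hy, Ideal.Quotient.eq] at h1
      have h2 : Ideal.Quotient.mk (JQ k ^ n) (ψ k b) = μ k n (σ (k + n) b) := AlgHom.congr_fun (hψ k n) b
      rw [hμσ k n (l + n) (by omega) b x hx.symm] at h2
      rw [h2, AlgHom.comp_apply, ← hy, Ideal.Quotient.eq]
      have h3 := Ideal.mem_map_of_mem (Ideal.Quotient.factor (Ideal.pow_le_pow_right (I := Ideal.span {t}) hle)) h1
      rw [Ideal.map_pow, Ideal.map_map, Ideal.Quotient.factor_comp_mk, map_sub] at h3
      exact h3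
    haveI := hB (s 0) (hs 0)
    obtain ⟨Ψ, hΨ⟩ := exists_lift_principal (B := B) (R := R) (s 0) ψ hcomp
    refine ⟨Ψ, fun n => AlgHom.ext fun b => ?_⟩
    obtain ⟨x, hx⟩ := Ideal.Quotient.mk_surjective (σ (n + n) b)
    have h1 : Ideal.Quotient.mk (JQ n ^ n) (ψ n b) = μ n n (σ (n + n) b) := AlgHom.congr_fun (hψ n n) b
    rw [hμσ n n _ le_rfl b x hx.symm, ← hΨ n, AlgHom.comp_apply, Ideal.Quotient.mkₐ_eq_mk, Ideal.Quotient.eq, ← map_sub,
      ← Ideal.map_pow, Ideal.mem_quotient_iff_mem_sup] at h1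
    rw [← hσ (Nat.le_add_right n n), AlgHom.comp_apply, AlgHom.comp_apply, ← hx]
    show Ideal.Quotient.mk (J ^ n) (Ψ b) = Ideal.Quotient.factor (Ideal.pow_le_pow_right (Nat.le_add_right n n)) (Ideal.Quotient.mk _ x)
    rw [Ideal.Quotient.factor_mk, Ideal.Quotient.eq]
    exact sup_le (Ideal.pow_right_mono hJ' n) (Ideal.pow_right_mono htJ n) h1

end Groth.Agent.H24Adic
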