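import Groth.Agent.H24Adic.RigFlat
import Groth.Agent.H24Adic.RigFinite
import Groth.Agent.H7Flat.LocalCriterion
import Mathlib.RingTheory.Unramified.LocalRing

/-!
Flatness over algebras whose maximal ideals come from the base at rig-closed points.
-/

set_option autoImplicit false
set_option linter.style.haveILetI false

universe u

open Ideal TensorProduct

namespace Groth.Agent.H24Adic

/-- Flat over the base implies flat over an intermediate local ring with the same maximal ideal. -/
theorem flat_of_map_maximalIdeal {R S T : Type u} [CommRing R] [CommRing S] [CommRing T] [IsNoetherianRing S]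
    [IsNoetherianRing T] [IsLocalRing R] [IsLocalRing S] [IsLocalRing T] [Algebra R S] [Algebra S T] [Algebra R T]
    [IsScalarTower R S T] [IsLocalHom (algebraMap S T)] [Module.Flat R T]
    (h : (IsLocalRing.maximalIdeal R).map (algebraMap R S) = IsLocalRing.maximalIdeal S) : Module.Flat S T := by
  let m := IsLocalRing.maximalIdeal R
  let n := IsLocalRing.maximalIdeal S
  let v : m →ₗ[R] n :=
    { toFun := fun a => ⟨algebraMap R S a, h.le (Ideal.mem_map_of_mem _ a.2)⟩
      map_add' := fun a b => Subtype.ext (map_add (algebraMap R S) _ _)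
      map_smul' := fun r a => Subtype.ext (by simp [Algebra.smul_def]) }
  let Φ : T ⊗[R] m →ₗ[R] T ⊗[S] n :=
    TensorProduct.lift (LinearMap.mk₂ R (fun t a => t ⊗ₜ[S] v a) (fun t t' a => TensorProduct.add_tmul _ _ _)
      (fun c t a => (TensorProduct.smul_tmul' c t (v a)).symm) (fun t a a' => by rw [map_add, TensorProduct.tmul_add])
      (fun c t a => by rw [map_smul, TensorProduct.tmul_smul]))
  have hΦ : Function.Surjective Φ := fun z => by
    induction z using TensorProduct.induction_on with
    | zero => exact ⟨0, map_zero _⟩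
    | add x y hx hy =>
      obtain ⟨a, rfl⟩ := hx
      obtain ⟨b, rfl⟩ := hy
      exact ⟨a + b, map_add _ _ _⟩
    | tmul t y =>
      obtain ⟨y, hy⟩ := y
      have hy' : y ∈ Ideal.map (algebraMap R S) m := h.ge hy
      suffices ∀ y (hy : y ∈ Ideal.map (algebraMap R S) m), ∀ t : T, ∃ a, Φ a = t ⊗ₜ[S] (⟨y, h.le hy⟩ : n) from this y hy' t
      intro y hy
      refine Submodule.span_induction (p := fun y hy => ∀ t : T, ∃ a, Φ a = t ⊗ₜ[S] (⟨y, h.le hy⟩ : n)) ?_ ?_ ?_ ?_ hy
      · rintro _ ⟨a, ha, rfl⟩ t
        exact ⟨t ⊗ₜ[R] ⟨a, ha⟩, rfl⟩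
      · exact fun t => ⟨0, (map_zero _).trans (TensorProduct.tmul_zero _ _).symm⟩
      · intro x y _ _ hx hy t
        obtain ⟨a, ha⟩ := hx t
        obtain ⟨b, hb⟩ := hy t
        exact ⟨a + b, by rw [map_add, ha, hb, ← TensorProduct.tmul_add]; rfl⟩
      · intro s x _ hx t
        obtain ⟨a, ha⟩ := hx (s • t)
        exact ⟨a, by rw [ha, TensorProduct.smul_tmul]; rfl⟩
  let μS : T ⊗[S] n → T := fun z => TensorProduct.rid S T ((n.subtype).lTensor T z)
  let μR : T ⊗[R] m → T := fun z => TensorProduct.rid R T ((m.subtype).lTensor T z)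
  have hμ : ∀ z, μS (Φ z) = μR z := fun z => by
    induction z using TensorProduct.induction_on with
    | zero => simp [μS, μR]
    | add x y hx hy => simp only [μS, μR, map_add] at *; rw [hx, hy]
    | tmul t a =>
      show TensorProduct.rid S T (t ⊗ₜ[S] (algebraMap R S a : S)) = TensorProduct.rid R T (t ⊗ₜ[R] (a : R))
      rw [TensorProduct.rid_tmul, TensorProduct.rid_tmul, algebraMap_smul]
  refine H7Flat.flat_of_injective (S := T) (M := T) ((injective_iff_map_eq_zero _).2 fun x hx => ?_)
  obtain ⟨y, rfl⟩ := hΦ x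
  have h0 : μR y = 0 := by rw [← hμ]; simp [μS, n, hx]
  have hy : y = 0 := by
    apply Module.Flat.lTensor_preserves_injective_linearMap (M := T) m.subtype Subtype.val_injective
    apply (TensorProduct.rid R T).injective
    rw [map_zero, map_zero]
    exact h0
  rw [hy, map_zero]

/-- Unramified reductions stay so under completed localization. -/
theorem formallyUnramified_CA_quotient {A C : Type u} [CommRing A] [CommRing C] [IsNoetherianRing C] [Algebra A C]
    (JC : Ideal C) [Algebra.FormallyUnramified A (C ⧸ JC)] (c : C) :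
    Algebra.FormallyUnramified A (CA C JC c ⧸ JC.map (algebraMap C (CA C JC c))) := by
  let L := CA C JC c ⧸ JC.map (algebraMap C (CA C JC c))
  rw [Algebra.FormallyUnramified.iff_comp_injective]
  intro T _ _ N hN g₁ g₂ hg
  let π : C →ₐ[A] L := IsScalarTower.toAlgHom A C L
  have hπ : ∀ x ∈ JC, π x = 0 := fun x hx => by
    show algebraMap C L x = 0
    rw [IsScalarTower.algebraMap_apply C (CA C JC c) L]
    exact Ideal.Quotient.eq_zero_iff_mem.2 (Ideal.mem_map_of_mem _ hx)
  let πq : (C ⧸ JC) →ₐ[A] L := Ideal.Quotient.liftₐ JC π hπ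
  have h1 : g₁.comp πq = g₂.comp πq :=
    Algebra.FormallyUnramified.comp_injective N hN (by
      show (Ideal.Quotient.mkₐ A N).comp (g₁.comp πq) = (Ideal.Quotient.mkₐ A N).comp (g₂.comp πq)
      rw [← AlgHom.comp_assoc, ← AlgHom.comp_assoc]
      exact congrArg (AlgHom.comp · πq) hg)
  have hC : g₁.toRingHom.comp (algebraMap C L) = g₂.toRingHom.comp (algebraMap C L) :=
    RingHom.ext fun x => AlgHom.congr_fun h1 (Ideal.Quotient.mk JC x)
  have hLoc : g₁.toRingHom.comp (algebraMap (Localization.Away c) L) = g₂.toRingHom.comp (algebraMap (Localization.Away c) L) := by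
    refine IsLocalization.ringHom_ext (Submonoid.powers c) ?_
    rw [RingHom.comp_assoc, RingHom.comp_assoc, ← IsScalarTower.algebraMap_eq]
    exact hC
  refine AlgHom.ext fun y => ?_
  obtain ⟨z, rfl⟩ := Ideal.Quotient.mk_surjective y
  obtain ⟨w, hw⟩ := exists_sub_mem_CA (J := JC) c 1 z
  rw [pow_one] at hw
  have e : Ideal.Quotient.mk (JC.map (algebraMap C (CA C JC c))) z = algebraMap (Localization.Away c) L w := by
    rw [IsScalarTower.algebraMap_apply (Localization.Away c) (CA C JC c) L]
    exact Ideal.Quotient.eq.mpr hw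
  rw [e]
  exact RingHom.congr_fun hLoc w

/-- Completed localization is flat. -/
theorem flat_algebraMap_CA {R : Type u} [CommRing R] [IsNoetherianRing R] (J : Ideal R) (f : R) :
    (algebraMap R (CA R J f)).Flat := by
  haveI : IsNoetherianRing (Localization.Away f) := IsLocalization.isNoetherianRing (Submonoid.powers f) _ inferInstance
  rw [IsScalarTower.algebraMap_eq R (Localization.Away f) (CA R J f)]
  exact RingHom.Flat.comp (RingHom.flat_algebraMap_iff.mpr (IsLocalization.flat _ (Submonoid.powers f)))
    (RingHom.flat_algebraMap_iff.mpr (AdicCompletion.flat_of_isNoetherian _))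

/-- Reductions of completed localizations are of finite type over the base. -/
theorem finiteType_CA_base {A C : Type u} [CommRing A] [CommRing C] [IsNoetherianRing C] [Algebra A C] (JC : Ideal C)
    (c : C) (hft : Algebra.FiniteType A (C ⧸ JC)) : Algebra.FiniteType A (CA C JC c ⧸ JC.map (algebraMap C (CA C JC c))) := by
  haveI := finiteType_CA_quotient JC c
  letI : Algebra (C ⧸ JC) (CA C JC c ⧸ JC.map (algebraMap C (CA C JC c))) :=
    (Ideal.quotientMap _ (algebraMap C (CA C JC c)) Ideal.le_comap_map).toAlgebra
  haveI : IsScalarTower C (C ⧸ JC) (CA C JC c ⧸ JC.map (algebraMap C (CA C JC c))) := IsScalarTower.of_algebraMap_eq fun x => rfl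
  haveI : IsScalarTower A (C ⧸ JC) (CA C JC c ⧸ JC.map (algebraMap C (CA C JC c))) := IsScalarTower.of_algebraMap_eq fun x => by
    rw [IsScalarTower.algebraMap_apply A C (CA C JC c ⧸ JC.map (algebraMap C (CA C JC c)))]
    rfl
  haveI : Algebra.FiniteType (C ⧸ JC) (CA C JC c ⧸ JC.map (algebraMap C (CA C JC c))) :=
    Algebra.FiniteType.of_restrictScalars_finiteType C _ _
  exact Algebra.FiniteType.trans (S := C ⧸ JC) hft inferInstance

/-- Finite type reductions compose along towers. -/
theorem finiteType_quotient_trans {A B C : Type u} [CommRing A] [CommRing B] [CommRing C] [Algebra A B] [Algebra B C]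
    [Algebra A C] [IsScalarTower A B C] (JB : Ideal B) (JC : Ideal C) (hle : JB.map (algebraMap B C) ≤ JC)
    (h1 : Algebra.FiniteType A (B ⧸ JB)) (h2 : Algebra.FiniteType B (C ⧸ JC)) : Algebra.FiniteType A (C ⧸ JC) := by
  haveI := h2
  letI : Algebra (B ⧸ JB) (C ⧸ JC) := (Ideal.quotientMap _ (algebraMap B C) (Ideal.map_le_iff_le_comap.mp hle)).toAlgebra
  haveI : IsScalarTower B (B ⧸ JB) (C ⧸ JC) := IsScalarTower.of_algebraMap_eq fun x => rfl
  haveI : IsScalarTower A (B ⧸ JB) (C ⧸ JC) := IsScalarTower.of_algebraMap_eq fun x => by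
    rw [IsScalarTower.algebraMap_apply A B (C ⧸ JC)]
    rfl
  haveI : Algebra.FiniteType (B ⧸ JB) (C ⧸ JC) := Algebra.FiniteType.of_restrictScalars_finiteType B _ _
  exact Algebra.FiniteType.trans (S := B ⧸ JB) h1 inferInstance

variable {A : Type u} [CommRing A] [IsNoetherianRing A] (I : Ideal A) [IsAdicComplete I A] {D : Type u} [CommRing D]
  [IsNoetherianRing D] [Algebra A D] [IsAdicComplete (I.map (algebraMap A D)) D]
  [Algebra.FormallyUnramified A (D ⧸ I.map (algebraMap A D))]

/-- Over a rig-closed prime, an algebra with unramified reduction has its maximal ideals from the base. -/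
theorem map_maximalIdeal_of_unramified (hft : Algebra.FiniteType A (D ⧸ I.map (algebraMap A D))) (p : PrimeSpectrum A)
    (hp : RigClosed I p) (P : Ideal D) [P.IsPrime] (hP : P.comap (algebraMap A D) = p.asIdeal) :
    p.asIdeal.map (algebraMap A (Localization.AtPrime P)) = IsLocalRing.maximalIdeal (Localization.AtPrime P) := by
  haveI := finite_quotient_map_of_unramified (I := I) hft p hp.1 hp.2
  let E := D ⧸ p.asIdeal.map (algebraMap A D)
  let R := A ⧸ p.asIdeal
  letI : Algebra R E := Ideal.quotientMap _ (algebraMap A D) Ideal.le_comap_map |>.toAlgebra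
  haveI : IsScalarTower A R E := IsScalarTower.of_algebraMap_eq fun x => rfl
  haveI : Module.Finite R E := Module.Finite.of_restrictScalars_finite A R E
  haveI hR : IsAdicComplete (I.map (algebraMap A R)) R := isAdicComplete_map_quotient p.asIdeal
  have he : (I.map (algebraMap A R)).map (algebraMap R E) = I.map (algebraMap A E) := by
    rw [Ideal.map_map, ← IsScalarTower.algebraMap_eq]
  let pr : (D ⧸ I.map (algebraMap A D)) →ₐ[A] E ⧸ (I.map (algebraMap A R)).map (algebraMap R E) :=
    Ideal.Quotient.liftₐ _ ((Ideal.Quotient.mkₐ A _).comp (Ideal.Quotient.mkₐ A _)) (fun x hx => by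
      refine Ideal.Quotient.eq_zero_iff_mem.mpr ?_
      rw [he, IsScalarTower.algebraMap_eq A D E, ← Ideal.map_map]
      exact Ideal.mem_map_of_mem _ hx)
  haveI : Algebra.FormallyUnramified A (E ⧸ (I.map (algebraMap A R)).map (algebraMap R E)) :=
    Algebra.FormallyUnramified.of_surjective pr fun y => by
      obtain ⟨z, rfl⟩ := Ideal.Quotient.mk_surjective y
      obtain ⟨x, rfl⟩ := Ideal.Quotient.mk_surjective z
      exact ⟨Ideal.Quotient.mk _ x, rfl⟩
  haveI : Algebra.FormallyUnramified R (E ⧸ (I.map (algebraMap A R)).map (algebraMap R E)) :=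
    Algebra.FormallyUnramified.of_restrictScalars A R _
  haveI : Algebra.FormallyUnramified R E :=
    formallyUnramified_of_finite (I.map (algebraMap A R)) E (IsAdicComplete.le_jacobson_bot _)
  have hJP : p.asIdeal.map (algebraMap A D) ≤ P := Ideal.map_le_iff_le_comap.mpr hP.ge
  let Q : Ideal E := P.map (Ideal.Quotient.mk _)
  have hQ : Q.comap (Ideal.Quotient.mk _) = P := by
    rw [Ideal.comap_map_of_surjective _ Ideal.Quotient.mk_surjective, ← RingHom.ker_eq_comap_bot, Ideal.mk_ker, sup_eq_left]
    exact hJP
  haveI : Q.IsPrime := Ideal.map_isPrime_of_surjective Ideal.Quotient.mk_surjective (by rw [Ideal.mk_ker]; exact hJP)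
  haveI : Q.LiesOver (⊥ : Ideal R) := ⟨by
    refine (le_antisymm ?_ bot_le).symm
    intro x hx
    obtain ⟨a, rfl⟩ := Ideal.Quotient.mk_surjective x
    rw [Ideal.mem_bot, Ideal.Quotient.eq_zero_iff_mem, ← hP]
    have hx' : Ideal.Quotient.mk (p.asIdeal.map (algebraMap A D)) (algebraMap A D a) ∈ Q := hx
    rw [← Ideal.mem_comap, hQ] at hx'
    exact hx'⟩
  haveI : Algebra.IsUnramifiedAt R Q := inferInstance
  letI := Localization.AtPrime.algebraOfLiesOver (⊥ : Ideal R) Q
  have hmap := ((Algebra.isUnramifiedAt_iff_map_eq R (⊥ : Ideal R) Q).mp inferInstance).2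
  rw [Ideal.map_bot] at hmap
  refine le_antisymm (Ideal.map_le_iff_le_comap.mpr fun a ha => ?_) fun z hz => ?_
  · rw [Ideal.mem_comap, IsScalarTower.algebraMap_apply A D (Localization.AtPrime P),
      IsLocalization.AtPrime.to_map_mem_maximal_iff _ P]
    exact (hP.ge ha : a ∈ P.comap (algebraMap A D))
  · obtain ⟨x, s, rfl⟩ := IsLocalization.exists_mk'_eq P.primeCompl z
    have hx : x ∈ P := (IsLocalization.AtPrime.mk'_mem_maximal_iff _ P x s).mp hz
    have h0 : algebraMap E (Localization.AtPrime Q) (Ideal.Quotient.mk _ x) = 0 := by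
      rw [← Ideal.mem_bot, hmap, IsLocalization.AtPrime.to_map_mem_maximal_iff _ Q]
      exact Ideal.mem_map_of_mem _ hx
    obtain ⟨⟨e, he'⟩, hex⟩ := (IsLocalization.map_eq_zero_iff Q.primeCompl _ _).mp h0
    obtain ⟨t, rfl⟩ := Ideal.Quotient.mk_surjective e
    have htP : t ∉ P := fun ht => he' (Ideal.mem_map_of_mem _ ht)
    have htx : t * x ∈ p.asIdeal.map (algebraMap A D) := Ideal.Quotient.eq_zero_iff_mem.mp ((map_mul _ t x).trans hex)
    rw [IsScalarTower.algebraMap_eq A D (Localization.AtPrime P), ← Ideal.map_map]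
    rw [IsLocalization.mk'_mem_map_algebraMap_iff P.primeCompl]
    exact ⟨t, htP, htx⟩

/-- Flatness over the base at a rig-closed point gives flatness over an algebra with unramified reduction. -/
theorem flat_at_prime_of_unramified (hft : Algebra.FiniteType A (D ⧸ I.map (algebraMap A D))) {C : Type u} [CommRing C]
    [IsNoetherianRing C] (θ : D →+* C) (q : Ideal C) [q.IsPrime]
    (hp : RigClosed I (⟨(q.comap θ).comap (algebraMap A D), inferInstance⟩ : PrimeSpectrum A))
    (hflat : ((algebraMap C (Localization.AtPrime q)).comp (θ.comp (algebraMap A D))).Flat) :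
    ((algebraMap C (Localization.AtPrime q)).comp θ).Flat := by
  let p : Ideal A := (q.comap θ).comap (algebraMap A D)
  let P : Ideal D := q.comap θ
  let χ := Localization.localRingHom p P (algebraMap A D) rfl
  let l := Localization.localRingHom P q θ rfl
  letI := χ.toAlgebra
  letI := l.toAlgebra
  letI := (l.comp χ).toAlgebra
  haveI : IsScalarTower (Localization.AtPrime p) (Localization.AtPrime P) (Localization.AtPrime q) :=
    IsScalarTower.of_algebraMap_eq fun _ => rfl
  haveI : IsLocalHom (algebraMap (Localization.AtPrime P) (Localization.AtPrime q)) :=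
    inferInstanceAs (IsLocalHom (Localization.localRingHom P q θ rfl))
  haveI : IsNoetherianRing (Localization.AtPrime P) := IsLocalization.isNoetherianRing P.primeCompl _ inferInstance
  haveI : IsNoetherianRing (Localization.AtPrime q) := IsLocalization.isNoetherianRing q.primeCompl _ inferInstance
  haveI : Module.Flat (Localization.AtPrime p) (Localization.AtPrime q) := by
    show (l.comp χ).Flat
    rw [← Localization.localRingHom_comp p P q (algebraMap A D) rfl θ rfl]
    exact flat_localRingHom (θ.comp (algebraMap A D)) q hflat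
  have hmax : (IsLocalRing.maximalIdeal (Localization.AtPrime p)).map χ = IsLocalRing.maximalIdeal (Localization.AtPrime P) := by
    rw [← Localization.AtPrime.map_eq_maximalIdeal, Ideal.map_map,
      show χ.comp (algebraMap A (Localization.AtPrime p)) = algebraMap A (Localization.AtPrime P) from RingHom.ext fun a => by
        rw [RingHom.comp_apply, Localization.localRingHom_to_map, ← IsScalarTower.algebraMap_apply]]
    exact map_maximalIdeal_of_unramified I hft _ hp P rfl
  have hF : Module.Flat (Localization.AtPrime P) (Localization.AtPrime q) := flat_of_map_maximalIdeal hmax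
  have hD : (algebraMap D (Localization.AtPrime P)).Flat :=
    RingHom.flat_algebraMap_iff.mpr (IsLocalization.flat _ P.primeCompl)
  rw [show (algebraMap C (Localization.AtPrime q)).comp θ = l.comp (algebraMap D (Localization.AtPrime P)) from
    RingHom.ext fun d => (Localization.localRingHom_to_map P q θ rfl d).symm]
  exact RingHom.Flat.comp hD hF

end Groth.Agent.H24Adic
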