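import Groth.Agent.H24Adic.CompletionRig
import Groth.Agent.H24Flat.Complete
import Groth.Agent.H9Hens.FlatEpi
import Mathlib.RingTheory.Flat.FaithfullyFlat.Algebra
import Mathlib.RingTheory.RingHom.Flat
import Mathlib.RingTheory.Localization.LocalizationLocalization

/-!
Completed principal localizations: functoriality, flatness, rig-closed points.
-/

set_option linter.style.haveILetI false

universe u

open Ideal

namespace Groth.Agent.H24Adic

/-- The completed principal localization. -/
abbrev CA (R : Type u) [CommRing R] (J : Ideal R) (f : R) : Type u :=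
  AdicCompletion (J.map (algebraMap R (Localization.Away f))) (Localization.Away f)

/-- `q` does not contain `J` and is maximal such. -/
def RigClosed {R : Type u} [CommRing R] (J : Ideal R) (q : PrimeSpectrum R) : Prop :=
  ¬ J ≤ q.asIdeal ∧ ∀ y : PrimeSpectrum R, q ≤ y → ¬ J ≤ y.asIdeal → y = q

variable {R : Type u} [CommRing R] {J : Ideal R}

theorem map_CA (f : R) :
    (J.map (algebraMap R (Localization.Away f))).map (algebraMap (Localization.Away f) (CA R J f)) =
      J.map (algebraMap R (CA R J f)) := by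
  rw [Ideal.map_map, ← IsScalarTower.algebraMap_eq]

theorem isNoetherianRing_CA [IsNoetherianRing R] (f : R) : IsNoetherianRing (CA R J f) := by
  haveI : IsNoetherianRing (Localization.Away f) := IsLocalization.isNoetherianRing (Submonoid.powers f) _ inferInstance
  exact isNoetherianRing_adicCompletion _

theorem isAdicComplete_CA [IsNoetherianRing R] (f : R) :
    IsAdicComplete (J.map (algebraMap R (CA R J f))) (CA R J f) := by
  haveI : IsNoetherianRing (Localization.Away f) := IsLocalization.isNoetherianRing (Submonoid.powers f) _ inferInstance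
  rw [← map_CA]
  exact AdicCompletion.isAdicComplete_self (J.map (algebraMap R (Localization.Away f))) (IsNoetherian.noetherian _)

theorem exists_sub_mem_CA [IsNoetherianRing R] (f : R) (k : ℕ) (y : CA R J f) :
    ∃ z : Localization.Away f, y - algebraMap _ (CA R J f) z ∈ (J.map (algebraMap R (CA R J f))) ^ k := by
  haveI : IsNoetherianRing (Localization.Away f) := IsLocalization.isNoetherianRing (Submonoid.powers f) _ inferInstance
  obtain ⟨z, hz⟩ := exists_sub_of_mem (J := J.map (algebraMap R (Localization.Away f))) (IsNoetherian.noetherian _) k y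
  refine ⟨z, ?_⟩
  rwa [← map_CA, ← Ideal.map_pow]

/-- Maps out of a completed localization are determined on the ring. -/
theorem CA_hom_ext [IsNoetherianRing R] (f : R) {T : Type u} [CommRing T] (L : Ideal T) [IsHausdorff L T]
    (ψ ψ' : CA R J f →+* T)
    (h : ψ.comp (algebraMap R (CA R J f)) = ψ'.comp (algebraMap R (CA R J f)))
    (hle : J.map (ψ.comp (algebraMap R (CA R J f))) ≤ L) : ψ = ψ' := by
  have hloc : ψ.comp (algebraMap (Localization.Away f) _) = ψ'.comp (algebraMap (Localization.Away f) _) :=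
    IsLocalization.ringHom_ext (Submonoid.powers f) (by
      rw [RingHom.comp_assoc, RingHom.comp_assoc, ← IsScalarTower.algebraMap_eq]; exact h)
  refine RingHom.ext fun x => sub_eq_zero.mp (IsHausdorff.haus (I := L) inferInstance _ fun k => ?_)
  rw [SModEq.sub_mem, sub_zero, smul_eq_mul, Ideal.mul_top]
  obtain ⟨z, hz⟩ := exists_sub_mem_CA f k x
  have key : ∀ θ : CA R J f →+* T, J.map (θ.comp (algebraMap R (CA R J f))) ≤ L →
      θ (x - algebraMap _ (CA R J f) z) ∈ L ^ k := fun θ hθ => by
    have := Ideal.mem_map_of_mem θ hz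
    rw [Ideal.map_pow, Ideal.map_map] at this
    exact Ideal.pow_right_mono hθ k this
  have h1 := sub_mem (key ψ hle) (key ψ' (h ▸ hle))
  rw [map_sub, map_sub, show ψ (algebraMap _ (CA R J f) z) = ψ' (algebraMap _ (CA R J f) z) from RingHom.congr_fun hloc z,
    sub_sub_sub_cancel_right] at h1
  exact h1

/-- Maps into complete rings in which `f` is a unit. -/
theorem exists_CA_hom [IsNoetherianRing R] (f : R) (T : Type u) [CommRing T] [Algebra R T]
    [IsAdicComplete (J.map (algebraMap R T)) T] (hf : IsUnit (algebraMap R T f)) :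
    ∃ Φ : CA R J f →+* T, Φ.comp (algebraMap R (CA R J f)) = algebraMap R T := by
  let g : Localization.Away f →ₐ[R] T := IsLocalization.liftAlgHom (M := Submonoid.powers f) (S := Localization.Away f)
    (f := Algebra.ofId R T) (fun y => by
      obtain ⟨k, hk⟩ := y.2
      rw [← hk]
      simpa using hf.pow k)
  obtain ⟨Φ, -⟩ := exists_algHom J g
  exact ⟨Φ.toRingHom, Φ.comp_algebraMap⟩

variable {S : Type u} [CommRing S] {K : Ideal S}

/-- The map of principal localizations. -/
noncomputable def locLift (φ : R →+* S) (f : R) (g : S) (h : φ f ∣ g) : Localization.Away f →+* Localization.Away g :=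
  IsLocalization.Away.lift f (g := (algebraMap S (Localization.Away g)).comp φ)
    (isUnit_of_dvd_unit ((algebraMap S (Localization.Away g)).map_dvd h) (IsLocalization.Away.algebraMap_isUnit g))

theorem locLift_comp (φ : R →+* S) (f : R) (g : S) (h : φ f ∣ g) :
    (locLift φ f g h).comp (algebraMap R (Localization.Away f)) = (algebraMap S (Localization.Away g)).comp φ :=
  IsLocalization.Away.lift_comp f _

theorem map_locLift_le (φ : R →+* S) (hle : J.map φ ≤ K) (f : R) (g : S) (h : φ f ∣ g) :
    (J.map (algebraMap R (Localization.Away f))).map (locLift φ f g h) ≤ K.map (algebraMap S (Localization.Away g)) := by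
  rw [Ideal.map_map, locLift_comp, ← Ideal.map_map]
  exact Ideal.map_mono hle

/-- The map of completed principal localizations. -/
noncomputable def cmap (φ : R →+* S) (hle : J.map φ ≤ K) (f : R) (g : S) (h : φ f ∣ g) : CA R J f →+* CA S K g :=
  FSch.complMap _ _ (locLift φ f g h) (map_locLift_le φ hle f g h)

theorem cmap_comp (φ : R →+* S) (hle : J.map φ ≤ K) (f : R) (g : S) (h : φ f ∣ g) :
    (cmap φ hle f g h).comp (algebraMap R (CA R J f)) = (algebraMap S (CA S K g)).comp φ := by
  refine RingHom.ext fun r => ?_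
  simp only [RingHom.comp_apply]
  rw [IsScalarTower.algebraMap_apply R (Localization.Away f) (CA R J f), cmap, H24Flat.complMap_of,
    ← RingHom.comp_apply (locLift φ f g h), locLift_comp]
  exact (IsScalarTower.algebraMap_apply S (Localization.Away g) (CA S K g) (φ r)).symm

theorem flat_locLift (φ : R →+* S) (hφ : φ.Flat) (f : R) (g : S) (h : φ f ∣ g) : (locLift φ f g h).Flat := by
  letI := φ.toAlgebra
  letI := (locLift φ f g h).toAlgebra
  haveI : Module.Flat R S := hφ
  haveI : IsScalarTower R (Localization.Away f) (Localization.Away g) := IsScalarTower.of_algebraMap_eq fun r => by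
    rw [IsScalarTower.algebraMap_apply R S (Localization.Away g)]
    exact (RingHom.congr_fun (locLift_comp φ f g h) r).symm
  haveI : Module.Flat S (Localization.Away g) := IsLocalization.flat _ (Submonoid.powers g)
  haveI : Module.Flat R (Localization.Away g) := Module.Flat.trans R S _
  exact (Module.flat_iff_of_isLocalization (Localization.Away f) (Submonoid.powers f) _).mpr inferInstance

theorem flat_cmap [IsNoetherianRing R] [IsNoetherianRing S] (φ : R →+* S) (hle : J.map φ ≤ K) (heq : K ≤ J.map φ)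
    (hφ : φ.Flat) (f : R) (g : S) (h : φ f ∣ g) : (cmap φ hle f g h).Flat := by
  haveI : IsNoetherianRing (Localization.Away f) := IsLocalization.isNoetherianRing (Submonoid.powers f) _ inferInstance
  haveI : IsNoetherianRing (Localization.Away g) := IsLocalization.isNoetherianRing (Submonoid.powers g) _ inferInstance
  refine H24Flat.flat_complMap _ _ (flat_locLift φ hφ f g h) _ _ ?_
  rw [Ideal.map_map, locLift_comp, ← Ideal.map_map]
  exact Ideal.map_mono heq

theorem isUnit_CA (f : R) : IsUnit (algebraMap R (CA R J f) f) := by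
  rw [IsScalarTower.algebraMap_apply R (Localization.Away f) (CA R J f)]
  exact (IsLocalization.Away.algebraMap_isUnit (S := Localization.Away f) f).map _

theorem cmap_compat (φ : R →+* S) (hle : J.map φ ≤ K) (a : R) :
    (cmap φ hle a (φ a) dvd_rfl).comp (algebraMap (Localization.Away a) (CA R J a)) =
      (algebraMap (Localization.Away (φ a)) (CA S K (φ a))).comp (Localization.awayMap φ a) := by
  refine IsLocalization.ringHom_ext (Submonoid.powers a) ?_
  rw [RingHom.comp_assoc, RingHom.comp_assoc, ← IsScalarTower.algebraMap_eq, cmap_comp,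
    Localization.awayMap, IsLocalization.Away.map, IsLocalization.map_comp, ← RingHom.comp_assoc, ← IsScalarTower.algebraMap_eq]

theorem comp_algebraMap_of_compat (φ : R →+* S) (a : R) (ψ : CA R J a →+* CA S K (φ a))
    (hψ : ψ.comp (algebraMap (Localization.Away a) (CA R J a)) =
      (algebraMap (Localization.Away (φ a)) (CA S K (φ a))).comp (Localization.awayMap φ a)) :
    ψ.comp (algebraMap R (CA R J a)) = (algebraMap S (CA S K (φ a))).comp φ := by
  rw [IsScalarTower.algebraMap_eq R (Localization.Away a) (CA R J a), ← RingHom.comp_assoc, hψ, RingHom.comp_assoc,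
    Localization.awayMap, IsLocalization.Away.map, IsLocalization.map_comp, ← RingHom.comp_assoc,
    ← IsScalarTower.algebraMap_eq]

/-- A ring map with flat composite into a localization at a prime is flat on the local rings. -/
theorem flat_localRingHom {R' S' : Type u} [CommRing R'] [CommRing S'] (χ : R' →+* S') (q : Ideal S') [q.IsPrime]
    (h : ((algebraMap S' (Localization.AtPrime q)).comp χ).Flat) :
    (Localization.localRingHom (q.comap χ) q χ rfl).Flat := by
  letI := χ.toAlgebra
  letI := (Localization.localRingHom (q.comap χ) q χ rfl).toAlgebra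
  haveI : IsScalarTower R' (Localization.AtPrime (q.comap χ)) (Localization.AtPrime q) := IsScalarTower.of_algebraMap_eq fun r => by
    rw [IsScalarTower.algebraMap_apply R' S' (Localization.AtPrime q)]
    exact (Localization.localRingHom_to_map _ _ _ _ r).symm
  haveI : Module.Flat R' (Localization.AtPrime q) := by
    rw [← RingHom.flat_algebraMap_iff, IsScalarTower.algebraMap_eq R' S']
    exact h
  exact (Module.flat_iff_of_isLocalization (Localization.AtPrime (q.comap χ)) (q.comap χ).primeCompl _).mpr inferInstance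

/-- Flatness descends to a local ring along a flat map at a prime over it. -/
theorem flat_of_flat_at_prime {A' S S' : Type u} [CommRing A'] [CommRing S] [CommRing S'] (χ : A' →+* S)
    (ι : S →+* S') (hι : ι.Flat) (q : Ideal S') [q.IsPrime]
    (h : ((algebraMap S' (Localization.AtPrime q)).comp (ι.comp χ)).Flat) :
    ((algebraMap S (Localization.AtPrime (q.comap ι))).comp χ).Flat := by
  let l := Localization.localRingHom (q.comap ι) q ι rfl
  have hl : l.Flat := flat_localRingHom ι q (hι.comp (IsLocalization.flat _ q.primeCompl |> RingHom.flat_algebraMap_iff.mpr))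
  letI := l.toAlgebra
  letI := ((algebraMap S (Localization.AtPrime (q.comap ι))).comp χ).toAlgebra
  letI := (l.comp ((algebraMap S (Localization.AtPrime (q.comap ι))).comp χ)).toAlgebra
  haveI : IsScalarTower A' (Localization.AtPrime (q.comap ι)) (Localization.AtPrime q) := IsScalarTower.of_algebraMap_eq fun r => rfl
  haveI : Module.Flat (Localization.AtPrime (q.comap ι)) (Localization.AtPrime q) := hl
  haveI : IsLocalHom (algebraMap (Localization.AtPrime (q.comap ι)) (Localization.AtPrime q)) :=
    inferInstanceAs (IsLocalHom (Localization.localRingHom (q.comap ι) q ι rfl))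
  haveI : Module.FaithfullyFlat (Localization.AtPrime (q.comap ι)) (Localization.AtPrime q) :=
    Module.FaithfullyFlat.of_flat_of_isLocalHom
  haveI : Module.Flat A' (Localization.AtPrime q) := by
    have e : l.comp ((algebraMap S (Localization.AtPrime (q.comap ι))).comp χ) =
        (algebraMap S' (Localization.AtPrime q)).comp (ι.comp χ) :=
      RingHom.ext fun r => Localization.localRingHom_to_map (q.comap ι) q ι rfl (χ r)
    show (l.comp ((algebraMap S (Localization.AtPrime (q.comap ι))).comp χ)).Flat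
    rw [e]
    exact h
  exact H9Hens.flat_of_faithfullyFlat_tower A' (Localization.AtPrime (q.comap ι)) (Localization.AtPrime q)

/-- Flatness at a prime composes. -/
theorem flat_comp_at_prime {A' S S' : Type u} [CommRing A'] [CommRing S] [CommRing S'] (χ : A' →+* S)
    (ι : S →+* S') (q : Ideal S') [q.IsPrime]
    (h1 : ((algebraMap S (Localization.AtPrime (q.comap ι))).comp χ).Flat)
    (h2 : ((algebraMap S' (Localization.AtPrime q)).comp ι).Flat) :
    ((algebraMap S' (Localization.AtPrime q)).comp (ι.comp χ)).Flat := by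
  have e : (algebraMap S' (Localization.AtPrime q)).comp (ι.comp χ) =
      (Localization.localRingHom (q.comap ι) q ι rfl).comp ((algebraMap S (Localization.AtPrime (q.comap ι))).comp χ) :=
    RingHom.ext fun r => (Localization.localRingHom_to_map (q.comap ι) q ι rfl (χ r)).symm
  rw [e]
  exact h1.comp (flat_localRingHom ι q h2)

/-- A complete local domain of dimension one with finite type reduction is finite over every base
inverting a suitable element. -/
theorem exists_finite_base {A : Type u} [CommRing A] (I : Ideal A) (D : Type u) [CommRing D] [IsDomain D]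
    [IsNoetherianRing D] [Algebra A D] [IsAdicComplete (I.map (algebraMap A D)) D] [Ring.KrullDimLE 1 D]
    (hne : I.map (algebraMap A D) ≠ ⊥) [Algebra.FiniteType A (D ⧸ I.map (algebraMap A D))] :
    ∃ f : A, IsUnit (algebraMap A D f) ∧ ∀ (R : Type u) [CommRing R] [Algebra A R] [Algebra R D] [IsScalarTower A R D]
      [IsPrecomplete (I.map (algebraMap A R)) R], IsUnit (algebraMap A R f) → Module.Finite R D := by
  obtain ⟨M, hM⟩ := Ideal.exists_maximal D
  haveI := hM
  have hMrad : M = (I.map (algebraMap A D)).radical := eq_radical_of_isMaximal _ hne M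
  letI : Field (D ⧸ M) := Ideal.Quotient.field M
  have hle : I.map (algebraMap A D) ≤ M := hMrad ▸ Ideal.le_radical
  haveI : Algebra.FiniteType A (D ⧸ M) :=
    Algebra.FiniteType.of_surjective (Ideal.Quotient.factorₐ A hle) (Ideal.Quotient.factor_surjective hle)
  obtain ⟨f, hf0, hfin⟩ := exists_finite_away (A := A) (D ⧸ M)
  refine ⟨f, ?_, fun R _ _ _ _ _ hf => ?_⟩
  · by_contra hnu
    obtain ⟨N, hN, hfN⟩ := exists_max_ideal_of_mem_nonunits hnu
    haveI := hN
    exact hf0 (Ideal.Quotient.eq_zero_iff_mem.mpr (hMrad ▸ eq_radical_of_isMaximal _ hne N ▸ hfN))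
  have hmap : (I.map (algebraMap A R)).map (algebraMap R D) = I.map (algebraMap A D) := by
    rw [Ideal.map_map, ← IsScalarTower.algebraMap_eq]
  haveI : IsHausdorff ((I.map (algebraMap A R)).map (algebraMap R D)) D :=
    hmap.symm ▸ (inferInstance : IsHausdorff (I.map (algebraMap A D)) D)
  haveI : Algebra.FiniteType A (D ⧸ (I.map (algebraMap A R)).map (algebraMap R D)) := hmap.symm ▸ ‹_›
  haveI : Algebra.FiniteType R (D ⧸ (I.map (algebraMap A R)).map (algebraMap R D)) :=
    Algebra.FiniteType.of_restrictScalars_finiteType A R _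
  haveI : Module.Finite R (D ⧸ M) := hfin R hf
  haveI : Module.Finite R ((D ⧸ (I.map (algebraMap A R)).map (algebraMap R D)) ⧸
      M.map (Ideal.Quotient.mk ((I.map (algebraMap A R)).map (algebraMap R D)))) := by
    refine Module.Finite.of_surjective (Ideal.Quotient.liftₐ M ((Ideal.Quotient.mkₐ R _).comp (Ideal.Quotient.mkₐ R _))
      fun a ha => Ideal.Quotient.eq_zero_iff_mem.mpr (Ideal.mem_map_of_mem _ ha)).toLinearMap fun y => ?_
    obtain ⟨z, rfl⟩ := Ideal.Quotient.mk_surjective y
    obtain ⟨w, rfl⟩ := Ideal.Quotient.mk_surjective z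
    exact ⟨Ideal.Quotient.mk _ w, rfl⟩
  refine finite_of_finite_algebra_quotient (I := I.map (algebraMap A R))
    (finite_of_finite_quotient_nil (M.map (Ideal.Quotient.mk _)) fun x hx => ?_)
  obtain ⟨w, hw, rfl⟩ := (Ideal.mem_map_iff_of_surjective _ Ideal.Quotient.mk_surjective).mp hx
  obtain ⟨N, hN⟩ := (hMrad ▸ hw : w ∈ (I.map (algebraMap A D)).radical)
  exact ⟨N, by rw [← map_pow]; exact Ideal.Quotient.eq_zero_iff_mem.mpr (hmap.symm ▸ hN)⟩

/-- The kernel of an integral map to a one-dimensional domain in which the ideal is nonzero is rig-closed. -/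
theorem rigClosed_ker {A' D : Type u} [CommRing A'] [CommRing D] [IsDomain D] [IsNoetherianRing D]
    [Ring.KrullDimLE 1 D] (χ : A' →+* D) (hχ : χ.IsIntegral) (J : Ideal A')
    (hne : J.map χ ≠ ⊥) [IsAdicComplete (J.map χ) D] :
    RigClosed J ⟨RingHom.ker χ, RingHom.ker_isPrime χ⟩ := by
  letI := χ.toAlgebra
  haveI : Algebra.IsIntegral A' D := ⟨hχ⟩
  have key := ker_rigClosed_of_isIntegral (A' := A') (D := D) J hne fun Z hZ hZ0 => by
    have hZmax := (Ring.krullDimLE_one_iff_of_noZeroDivisors.mp ‹_›) Z hZ0 hZ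
    haveI := hZmax
    rw [eq_radical_of_isMaximal _ hne Z]
    exact Ideal.le_radical
  exact ⟨key.1, fun y hy hJ => PrimeSpectrum.ext (key.2 y hy hJ)⟩

/-- Rig-closed points contract along maps which are integral modulo them. -/
theorem rigClosed_comap {R' S' : Type u} [CommRing R'] [CommRing S'] [IsNoetherianRing S'] (χ : R' →+* S')
    (J : Ideal R') [IsAdicComplete (J.map χ) S'] (q : PrimeSpectrum S') (hq : RigClosed (J.map χ) q)
    (hint : ((Ideal.Quotient.mk q.asIdeal).comp χ).IsIntegral) : RigClosed J (PrimeSpectrum.comap χ q) := by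
  haveI : Ring.KrullDimLE 1 (S' ⧸ q.asIdeal) := Ring.krullDimLE_iff.mpr (rigClosed_quotient q hq.1 hq.2).le
  have hne : J.map ((Ideal.Quotient.mk q.asIdeal).comp χ) ≠ ⊥ := fun h => hq.1 (by
    rwa [← Ideal.map_map, Ideal.map_eq_bot_iff_le_ker, Ideal.mk_ker] at h)
  haveI : IsAdicComplete (J.map ((Ideal.Quotient.mk q.asIdeal).comp χ)) (S' ⧸ q.asIdeal) := by
    rw [← Ideal.map_map]; exact isAdicComplete_map_quotient q.asIdeal
  have e : (⟨RingHom.ker ((Ideal.Quotient.mk q.asIdeal).comp χ), RingHom.ker_isPrime _⟩ : PrimeSpectrum R') =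
      PrimeSpectrum.comap χ q := PrimeSpectrum.ext (by
    show RingHom.ker _ = q.asIdeal.comap χ
    rw [← RingHom.comap_ker, Ideal.mk_ker])
  exact e ▸ rigClosed_ker _ hint J hne

theorem finiteType_CA_quotient {C : Type u} [CommRing C] [IsNoetherianRing C] (JC : Ideal C) (c : C) :
    Algebra.FiniteType C (CA C JC c ⧸ JC.map (algebraMap C (CA C JC c))) := by
  haveI : Algebra.FiniteType C (Localization.Away c) :=
    IsLocalization.finiteType_of_monoid_fg (Submonoid.powers c) _
  refine Algebra.FiniteType.of_surjective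
    ((Ideal.Quotient.mkₐ C _).comp (IsScalarTower.toAlgHom C (Localization.Away c) (CA C JC c))) fun y => ?_
  obtain ⟨z, rfl⟩ := Ideal.Quotient.mk_surjective y
  obtain ⟨g, hg⟩ := exists_sub_mem_CA (J := JC) c 1 z
  rw [pow_one] at hg
  exact ⟨g, (Ideal.Quotient.eq.mpr hg).symm⟩

/-- A rig-closed point of a completed localization spreads to a smaller one, finite over the base. -/
theorem exists_refine {A C : Type u} [CommRing A] [IsNoetherianRing A] [CommRing C] [IsNoetherianRing C] [Algebra A C]
    (I : Ideal A) (JC : Ideal C) (hJC : I.map (algebraMap A C) = JC) (hft : Algebra.FiniteType A (C ⧸ JC)) (e : A)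
    (qe : PrimeSpectrum (CA C JC (algebraMap A C e)))
    (hqe : RigClosed (JC.map (algebraMap C (CA C JC (algebraMap A C e)))) qe) :
    ∃ f : A, e ∣ f ∧ ∀ (J2 : Ideal C), JC = J2 → ∀ (f' : C), f' = algebraMap A C f →
      ∀ (hle : JC.map (RingHom.id C) ≤ J2) (hdvd : RingHom.id C (algebraMap A C e) ∣ f')
      (hI : I.map (algebraMap A C) ≤ J2) (hd : algebraMap A C f ∣ f'),
      ∃ q' : PrimeSpectrum (CA C J2 f'), RigClosed (J2.map (algebraMap C (CA C J2 f'))) q' ∧
        q'.asIdeal.comap (cmap (RingHom.id C) hle (algebraMap A C e) f' hdvd) = qe.asIdeal ∧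
        ((Ideal.Quotient.mk q'.asIdeal).comp (cmap (algebraMap A C) hI f f' hd)).IsIntegral := by
  haveI : IsNoetherianRing (CA C JC (algebraMap A C e)) := isNoetherianRing_CA _
  haveI hCe := isAdicComplete_CA (J := JC) (algebraMap A C e)
  haveI hE := finiteType_CA_quotient JC (algebraMap A C e)
  let Ce := CA C JC (algebraMap A C e)
  let D := Ce ⧸ qe.asIdeal
  haveI hDc : IsAdicComplete ((JC.map (algebraMap C Ce)).map (algebraMap Ce D)) D :=
    isAdicComplete_map_quotient qe.asIdeal
  haveI hdim : Ring.KrullDimLE 1 D := Ring.krullDimLE_iff.mpr (rigClosed_quotient qe hqe.1 hqe.2).le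
  have hmapD : (JC.map (algebraMap C Ce)).map (algebraMap Ce D) = I.map (algebraMap A D) := by
    rw [Ideal.map_map, ← IsScalarTower.algebraMap_eq C Ce D, IsScalarTower.algebraMap_eq A C D, ← Ideal.map_map, hJC]
  haveI : IsAdicComplete (I.map (algebraMap A D)) D := hmapD ▸ hDc
  have hne : I.map (algebraMap A D) ≠ ⊥ := fun h => hqe.1 (by
    rw [← hmapD, Ideal.map_eq_bot_iff_le_ker, Ideal.Quotient.algebraMap_eq, Ideal.mk_ker] at h
    exact h)
  haveI : Algebra.FiniteType A (D ⧸ I.map (algebraMap A D)) := by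
    letI : Algebra (C ⧸ JC) (Ce ⧸ JC.map (algebraMap C Ce)) :=
      (Ideal.quotientMap (JC.map (algebraMap C Ce)) (algebraMap C Ce) Ideal.le_comap_map).toAlgebra
    haveI : IsScalarTower C (C ⧸ JC) (Ce ⧸ JC.map (algebraMap C Ce)) := IsScalarTower.of_algebraMap_eq fun x => rfl
    haveI : IsScalarTower A (C ⧸ JC) (Ce ⧸ JC.map (algebraMap C Ce)) := IsScalarTower.of_algebraMap_eq fun x => by
      rw [IsScalarTower.algebraMap_apply A C (Ce ⧸ JC.map (algebraMap C Ce))]
      rfl
    haveI : Algebra.FiniteType (C ⧸ JC) (Ce ⧸ JC.map (algebraMap C Ce)) := Algebra.FiniteType.of_restrictScalars_finiteType C _ _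
    haveI : Algebra.FiniteType A (Ce ⧸ JC.map (algebraMap C Ce)) := Algebra.FiniteType.trans (S := C ⧸ JC) hft inferInstance
    refine Algebra.FiniteType.of_surjective (Ideal.Quotient.liftₐ (JC.map (algebraMap C Ce))
      ((Ideal.Quotient.mkₐ A _).comp (Ideal.Quotient.mkₐ A qe.asIdeal)) fun a ha => ?_) fun y => ?_
    · exact Ideal.Quotient.eq_zero_iff_mem.mpr (hmapD ▸ Ideal.mem_map_of_mem _ ha)
    · obtain ⟨z, rfl⟩ := Ideal.Quotient.mk_surjective y
      obtain ⟨w, rfl⟩ := Ideal.Quotient.mk_surjective z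
      exact ⟨Ideal.Quotient.mk _ w, rfl⟩
  obtain ⟨f0, hf0, hfin⟩ := exists_finite_base I D hne
  have heD : IsUnit (algebraMap A D e) := by
    rw [IsScalarTower.algebraMap_apply A C D, IsScalarTower.algebraMap_apply C Ce D]
    exact (isUnit_CA _).map _
  refine ⟨e * f0, dvd_mul_right e f0, ?_⟩
  rintro J2 hJ2 f' hf' hle hdvd hI hd
  subst hJ2 hf'
  have hfD : IsUnit (algebraMap C D (algebraMap A C (e * f0))) := by
    rw [← IsScalarTower.algebraMap_apply, map_mul]; exact heD.mul hf0
  haveI : IsAdicComplete (JC.map (algebraMap C D)) D := by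
    rw [IsScalarTower.algebraMap_eq C Ce D, ← Ideal.map_map]; exact hDc
  obtain ⟨Φ, hΦ⟩ := exists_CA_hom (J := JC) (algebraMap A C (e * f0)) D hfD
  have hcomp : Φ.comp (cmap (RingHom.id C) hle (algebraMap A C e) _ hdvd) = Ideal.Quotient.mk qe.asIdeal := by
    have e1 : (Φ.comp (cmap (RingHom.id C) hle (algebraMap A C e) _ hdvd)).comp (algebraMap C Ce) = algebraMap C D := by
      rw [RingHom.comp_assoc, cmap_comp, RingHom.comp_id, hΦ]
    refine CA_hom_ext (J := JC) (algebraMap A C e) ((JC.map (algebraMap C Ce)).map (algebraMap Ce D)) _ _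
      (e1.trans rfl) (le_of_eq ?_)
    rw [e1, IsScalarTower.algebraMap_eq C Ce D, ← Ideal.map_map]
  have hΦsurj : Function.Surjective Φ := fun y => by
    obtain ⟨x, rfl⟩ := Ideal.Quotient.mk_surjective y
    exact ⟨_, RingHom.congr_fun hcomp x⟩
  have hJ2' : (JC.map (algebraMap C (CA C JC (algebraMap A C (e * f0))))).map Φ = I.map (algebraMap A D) := by
    rw [Ideal.map_map, hΦ, IsScalarTower.algebraMap_eq A C D, ← Ideal.map_map, hJC]
  haveI : IsAdicComplete ((JC.map (algebraMap C (CA C JC (algebraMap A C (e * f0))))).map Φ) D :=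
    hJ2'.symm ▸ ‹IsAdicComplete (I.map (algebraMap A D)) D›
  refine ⟨⟨RingHom.ker Φ, RingHom.ker_isPrime Φ⟩,
    rigClosed_ker Φ (RingHom.IsIntegral.of_finite (RingHom.Finite.of_surjective Φ hΦsurj)) _ (hJ2'.symm ▸ hne), ?_, ?_⟩
  · show (RingHom.ker Φ).comap _ = _
    rw [RingHom.comap_ker, hcomp, Ideal.mk_ker]
  · haveI := isNoetherianRing_CA (J := I) (e * f0)
    haveI := isAdicComplete_CA (J := I) (e * f0)
    letI : Algebra (CA A I (e * f0)) D := (Φ.comp (cmap (algebraMap A C) hI (e * f0) _ hd)).toAlgebra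
    haveI : IsScalarTower A (CA A I (e * f0)) D := IsScalarTower.of_algebraMap_eq' (by
      show _ = (Φ.comp (cmap (algebraMap A C) hI (e * f0) _ hd)).comp (algebraMap A (CA A I (e * f0)))
      rw [RingHom.comp_assoc, cmap_comp, ← RingHom.comp_assoc, hΦ, ← IsScalarTower.algebraMap_eq])
    have hfAf : IsUnit (algebraMap A (CA A I (e * f0)) f0) := by
      refine isUnit_of_mul_isUnit_right (x := algebraMap A (CA A I (e * f0)) e) ?_
      rw [← map_mul]; exact isUnit_CA _
    haveI : Module.Finite (CA A I (e * f0)) D := hfin _ hfAf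
    have hint : (Φ.comp (cmap (algebraMap A C) hI (e * f0) _ hd)).IsIntegral :=
      RingHom.IsIntegral.of_finite (RingHom.finite_algebraMap.mpr ‹Module.Finite (CA A I (e * f0)) D›)
    have e2 : (RingHom.quotientKerEquivOfSurjective hΦsurj).toRingHom.comp
        ((Ideal.Quotient.mk (RingHom.ker Φ)).comp (cmap (algebraMap A C) hI (e * f0) _ hd)) =
        Φ.comp (cmap (algebraMap A C) hI (e * f0) _ hd) := RingHom.ext fun x => rfl
    intro z
    obtain ⟨g, hg, hgz⟩ := hint (RingHom.quotientKerEquivOfSurjective hΦsurj z)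
    refine ⟨g, hg, (RingHom.quotientKerEquivOfSurjective hΦsurj).injective ?_⟩
    rw [← e2] at hgz
    rw [map_zero, ← hgz]
    exact Polynomial.hom_eval₂ g _ (RingHom.quotientKerEquivOfSurjective hΦsurj).toRingHom z

/-- Primes of a completed localization containing the ideal are determined on the ring. -/
theorem le_of_comap_le {R : Type u} [CommRing R] [IsNoetherianRing R] {J : Ideal R} (f : R)
    (P Q : Ideal (CA R J f)) [hP : P.IsPrime] (hJP : J.map (algebraMap R (CA R J f)) ≤ P)
    (hJQ : J.map (algebraMap R (CA R J f)) ≤ Q) (h : P.comap (algebraMap R _) ≤ Q.comap (algebraMap R _)) : P ≤ Q := by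
  intro y hy
  obtain ⟨z, hz⟩ := exists_sub_mem_CA f 1 y
  rw [pow_one] at hz
  have hzP : algebraMap _ (CA R J f) z ∈ P := by
    have := P.sub_mem hy (hJP hz)
    rwa [sub_sub_cancel] at this
  obtain ⟨c, s, rfl⟩ := IsLocalization.exists_mk'_eq (Submonoid.powers f) z
  have hu : IsUnit (algebraMap (Localization.Away f) (CA R J f) (algebraMap R _ (s : R))) :=
    (IsLocalization.map_units (Localization.Away f) s).map _
  have e : algebraMap (Localization.Away f) (CA R J f) (IsLocalization.mk' _ c s) *
      algebraMap (Localization.Away f) (CA R J f) (algebraMap R _ (s : R)) = algebraMap R (CA R J f) c := by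
    rw [← map_mul, IsLocalization.mk'_spec, ← IsScalarTower.algebraMap_apply]
  have hc : algebraMap R (CA R J f) c ∈ Q := h (show algebraMap R (CA R J f) c ∈ P from e ▸ P.mul_mem_right _ hzP)
  rw [← e, Ideal.mul_unit_mem_iff_mem _ hu] at hc
  have := Q.add_mem (hJQ hz) hc
  rwa [sub_add_cancel] at this

/-- Rig-closed points lift along flat maps whose image contains a specialisation. -/
theorem exists_rigClosed_over {R S : Type u} [CommRing R] [CommRing S] [IsNoetherianRing S] (ι : R →+* S)
    (hι : ι.Flat) (J : Ideal R) (q : PrimeSpectrum R) (hq : RigClosed J q) (Q : Ideal S) [Q.IsPrime]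
    (hQ : q.asIdeal ≤ Q.comap ι) :
    ∃ q' : PrimeSpectrum S, RigClosed (J.map ι) q' ∧ q'.asIdeal.comap ι = q.asIdeal := by
  letI := ι.toAlgebra
  haveI : Module.Flat R S := hι
  haveI : Q.LiesOver (Q.comap ι) := ⟨rfl⟩
  obtain ⟨P, -, hPp, hPlo⟩ := Ideal.exists_ideal_le_liesOver_of_le (p := q.asIdeal) (q := Q.comap ι) Q hQ
  haveI := hPp
  have hover : P.comap ι = q.asIdeal := hPlo.over.symm
  have hPJ : ¬ J.map ι ≤ P := fun h => hq.1 (hover ▸ Ideal.map_le_iff_le_comap.mp h)
  obtain ⟨m, ⟨hm1, hm2⟩, hmax⟩ := set_has_maximal_iff_noetherian.mpr (inferInstance : IsNoetherianRing S)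
    {a : Ideal S | P ≤ a ∧ a.IsPrime ∧ ¬ J.map ι ≤ a} ⟨P, le_rfl, hPp, hPJ⟩
  haveI := hm2.1
  refine ⟨⟨m, hm2.1⟩, ⟨hm2.2, fun y hy hyI => ?_⟩, ?_⟩
  · refine PrimeSpectrum.ext (le_antisymm ?_ hy)
    by_contra hc
    exact hmax y.asIdeal ⟨hm1.trans hy, y.2, hyI⟩ (lt_of_le_not_ge hy hc)
  · have hle : q.asIdeal ≤ Ideal.comap ι m := fun a ha => show ι a ∈ m from hm1 (Ideal.mem_comap.mp (hover.symm ▸ ha : a ∈ P.comap ι))
    exact congrArg PrimeSpectrum.asIdeal (hq.2 (PrimeSpectrum.comap ι ⟨m, hm2.1⟩) hle
      (fun h => hm2.2 (Ideal.map_le_iff_le_comap.mpr h)))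

/-- Completed localizations of a faithfully flat map cover the closed points. -/
theorem exists_prime_over_cmap {R S : Type u} [CommRing R] [CommRing S] [IsNoetherianRing R] [IsNoetherianRing S]
    [Algebra R S] [Module.FaithfullyFlat R S] (J : Ideal R) (K : Ideal S) (hK : J.map (algebraMap R S) = K)
    (a : R) (b : S) (hb : b = algebraMap R S a) (hd : algebraMap R S a ∣ b) (M : Ideal (CA R J a)) [M.IsMaximal] :
    ∃ Q : Ideal (CA S K b), Q.IsPrime ∧ M ≤ Q.comap (cmap (algebraMap R S) hK.le a b hd) := by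
  subst hb
  haveI := isNoetherianRing_CA (J := J) a
  haveI := isAdicComplete_CA (J := J) a
  haveI := Ideal.IsMaximal.isPrime ‹M.IsMaximal›
  have hJM : J.map (algebraMap R (CA R J a)) ≤ M := (IsAdicComplete.le_jacobson_bot _).trans (sInf_le ⟨bot_le, ‹M.IsMaximal›⟩)
  obtain ⟨⟨Q0, hQ0p⟩, hQ0⟩ := PrimeSpectrum.comap_surjective_of_faithfullyFlat (A := R) (B := S) ⟨M.comap (algebraMap R _), inferInstance⟩
  have hQ0' : Q0.comap (algebraMap R S) = M.comap (algebraMap R _) := congrArg PrimeSpectrum.asIdeal hQ0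
  have hKQ : K ≤ Q0 := hK ▸ Ideal.map_le_iff_le_comap.mpr (hQ0' ▸ Ideal.map_le_iff_le_comap.mp hJM)
  let T := FractionRing (S ⧸ Q0)
  have hzero : ∀ x ∈ Q0, algebraMap S T x = 0 := fun x hx => by
    rw [IsScalarTower.algebraMap_apply S (S ⧸ Q0) T, Ideal.Quotient.algebraMap_eq, Ideal.Quotient.eq_zero_iff_mem.mpr hx, map_zero]
  haveI : IsAdicComplete (K.map (algebraMap S T)) T := by
    rw [show K.map (algebraMap S T) = ⊥ from (Ideal.map_eq_bot_iff_le_ker _).mpr fun x hx => hzero x (hKQ hx)]
    infer_instance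
  have hu : IsUnit (algebraMap S T (algebraMap R S a)) := by
    rw [isUnit_iff_ne_zero, IsScalarTower.algebraMap_apply S (S ⧸ Q0) T,
      (IsFractionRing.injective (S ⧸ Q0) T).ne_iff' (map_zero _), Ne, Ideal.Quotient.algebraMap_eq, Ideal.Quotient.eq_zero_iff_mem]
    intro h
    have h' : a ∈ M.comap (algebraMap R _) := hQ0' ▸ h
    exact ‹M.IsMaximal›.ne_top (Ideal.eq_top_of_isUnit_mem _ h' (isUnit_CA a))
  obtain ⟨Φ, hΦ⟩ := exists_CA_hom (J := K) (algebraMap R S a) T hu
  haveI := RingHom.ker_isPrime (Φ.comp (cmap (algebraMap R S) hK.le a _ hd))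
  refine ⟨RingHom.ker Φ, RingHom.ker_isPrime Φ, ?_⟩
  rw [RingHom.comap_ker]
  have hcomp : ∀ r, (Φ.comp (cmap (algebraMap R S) hK.le a _ hd)) (algebraMap R _ r) = algebraMap S T (algebraMap R S r) := fun r => by
    rw [RingHom.comp_apply, show cmap (algebraMap R S) hK.le a _ hd (algebraMap R _ r) = algebraMap S _ (algebraMap R S r) from RingHom.congr_fun (cmap_comp (algebraMap R S) hK.le a _ hd) r]
    exact RingHom.congr_fun hΦ _
  refine le_of_comap_le a M _ hJM (Ideal.map_le_iff_le_comap.mpr fun r hr => ?_) fun r hr => ?_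
  · rw [Ideal.mem_comap, RingHom.mem_ker, hcomp]
    exact hzero _ (hKQ (hK ▸ Ideal.mem_map_of_mem _ hr))
  · rw [Ideal.mem_comap, RingHom.mem_ker, hcomp]
    exact hzero _ (show r ∈ Q0.comap (algebraMap R S) from hQ0'.symm ▸ hr)

end Groth.Agent.H24Adic
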