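import Groth.Agent.H24Adic.RigBaseChange
import Groth.Agent.H24Adic.Noetherian
import Groth.Agent.S8829

/-!
Completed tensor products and their completed localizations.
-/

set_option autoImplicit false
set_option linter.style.haveILetI false

universe u

open Ideal TensorProduct

namespace Groth.Agent.H24Adic

theorem map_map_tower {A R S : Type u} [CommRing A] [CommRing R] [CommRing S] [Algebra A R] [Algebra R S] [Algebra A S]
    [IsScalarTower A R S] (I : Ideal A) : (I.map (algebraMap A R)).map (algebraMap R S) = I.map (algebraMap A S) := by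
  rw [Ideal.map_map, ← IsScalarTower.algebraMap_eq]

theorem map_ringHom {A R S : Type u} [CommRing A] [CommRing R] [CommRing S] [Algebra A R] [Algebra A S]
    (φ : R →+* S) (hφ : φ.comp (algebraMap A R) = algebraMap A S) (I : Ideal A) :
    (I.map (algebraMap A R)).map φ = I.map (algebraMap A S) := by
  rw [Ideal.map_map, hφ]

/-- The reduction of a tensor product of algebras with finite type reductions is of finite type. -/
theorem finiteType_tensor_quotient {A B C : Type u} [CommRing A] [CommRing B] [CommRing C] [Algebra A B] [Algebra A C]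
    (I : Ideal A) (hB : Algebra.FiniteType A (B ⧸ I.map (algebraMap A B)))
    (hC : Algebra.FiniteType A (C ⧸ I.map (algebraMap A C))) :
    Algebra.FiniteType A ((C ⊗[A] B) ⧸ I.map (algebraMap A (C ⊗[A] B))) := by
  let T := (C ⊗[A] B) ⧸ I.map (algebraMap A (C ⊗[A] B))
  have hle : ∀ (R : Type u) [CommRing R] [Algebra A R] (g : R →ₐ[A] C ⊗[A] B),
      ∀ x ∈ I.map (algebraMap A R), ((Ideal.Quotient.mkₐ A _).comp g : R →ₐ[A] T) x = 0 := fun R _ _ g x hx =>
    Ideal.Quotient.eq_zero_iff_mem.mpr (map_ringHom (A := A) g.toRingHom g.comp_algebraMap I ▸ Ideal.mem_map_of_mem _ hx)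
  let lC : (C ⧸ I.map (algebraMap A C)) →ₐ[A] T := Ideal.Quotient.liftₐ _ _ (hle C Algebra.TensorProduct.includeLeft)
  let lB : (B ⧸ I.map (algebraMap A B)) →ₐ[A] T := Ideal.Quotient.liftₐ _ _ (hle B Algebra.TensorProduct.includeRight)
  haveI : Algebra.FiniteType A ((C ⧸ I.map (algebraMap A C)) ⊗[A] (B ⧸ I.map (algebraMap A B))) := by
    haveI := hB
    exact Algebra.FiniteType.trans (S := C ⧸ I.map (algebraMap A C)) hC inferInstance
  refine Algebra.FiniteType.of_surjective (Algebra.TensorProduct.lift lC lB fun _ _ => mul_comm _ _) fun y => ?_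
  obtain ⟨z, rfl⟩ := Ideal.Quotient.mk_surjective y
  induction z using TensorProduct.induction_on with
  | zero => exact ⟨0, by rw [map_zero, map_zero]⟩
  | tmul c b =>
    refine ⟨Ideal.Quotient.mk _ c ⊗ₜ Ideal.Quotient.mk _ b, ?_⟩
    rw [Algebra.TensorProduct.lift_tmul]
    show Ideal.Quotient.mk _ (c ⊗ₜ[A] (1 : B)) * Ideal.Quotient.mk _ ((1 : C) ⊗ₜ[A] b) = _
    rw [← map_mul, Algebra.TensorProduct.tmul_mul_tmul, mul_one, one_mul]
  | add a b ha hb =>
    obtain ⟨a', ha'⟩ := ha
    obtain ⟨b', hb'⟩ := hb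
    exact ⟨a' + b', by rw [map_add, ha', hb', map_add]⟩

/-- Completions of algebras with finite type reduction. -/
theorem cpl_of_finiteType_quotient {A P : Type u} [CommRing A] [IsNoetherianRing A] [CommRing P] [Algebra A P]
    (I : Ideal A) (J : Ideal P) (hJ : J = I.map (algebraMap A P)) (hft : Algebra.FiniteType A (P ⧸ I.map (algebraMap A P))) :
    IsAdicComplete (I.map (algebraMap A (AdicCompletion J P))) (AdicCompletion J P) ∧
      IsNoetherianRing (AdicCompletion J P) ∧
      Algebra.FiniteType A (AdicCompletion J P ⧸ I.map (algebraMap A (AdicCompletion J P))) := by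
  subst hJ
  have hfgP : (I.map (algebraMap A P)).FG := Ideal.FG.map (IsNoetherian.noetherian I) _
  let D := AdicCompletion (I.map (algebraMap A P)) P
  have hmap : (I.map (algebraMap A P)).map (algebraMap P D) = I.map (algebraMap A D) := map_map_tower I
  haveI hc : IsAdicComplete (I.map (algebraMap A D)) D := hmap ▸ AdicCompletion.isAdicComplete_self _ hfgP
  have hftD : Algebra.FiniteType A (D ⧸ I.map (algebraMap A D)) := by
    haveI := hft
    refine Algebra.FiniteType.of_surjective (Ideal.Quotient.liftₐ (I.map (algebraMap A P))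
      ((Ideal.Quotient.mkₐ A (I.map (algebraMap A D))).comp (IsScalarTower.toAlgHom A P D)) fun x hx =>
        Ideal.Quotient.eq_zero_iff_mem.mpr (hmap ▸ Ideal.mem_map_of_mem _ hx)) fun y => ?_
    obtain ⟨z, rfl⟩ := Ideal.Quotient.mk_surjective y
    obtain ⟨p, hp⟩ := exists_sub_of_mem hfgP 1 z
    rw [pow_one, hmap] at hp
    exact ⟨Ideal.Quotient.mk _ p, (Ideal.Quotient.eq.mpr hp).symm⟩
  refine ⟨hc, ?_, hftD⟩
  haveI := hftD
  haveI : IsNoetherianRing (D ⧸ I.map (algebraMap A D)) := Algebra.FiniteType.isNoetherianRing A _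
  exact isNoetherianRing_of_isAdicComplete (I.map (algebraMap A D)) (Ideal.FG.map (IsNoetherian.noetherian I) _)

/-- Rig-flatness passes to completed base change, in terms of the universal property. -/
theorem flat_rigClosed_baseChange {A : Type u} [CommRing A] [IsNoetherianRing A] (I : Ideal A) [IsAdicComplete I A]
    {B : Type u} [CommRing B] [Algebra A B] [IsNoetherianRing B] [IsAdicComplete (I.map (algebraMap A B)) B]
    (hAB : ∀ (f : A) (ψf : CA A I f →+* CA B (I.map (algebraMap A B)) (algebraMap A B f)),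
      ψf.comp (algebraMap (Localization.Away f) (CA A I f)) =
        (algebraMap (Localization.Away (algebraMap A B f)) (CA B (I.map (algebraMap A B)) (algebraMap A B f))).comp
          (Localization.awayMap (algebraMap A B) f) →
      ∀ qf, RigClosed ((I.map (algebraMap A B)).map (algebraMap B (CA B (I.map (algebraMap A B)) (algebraMap A B f)))) qf →
        ((algebraMap (CA B (I.map (algebraMap A B)) (algebraMap A B f)) (Localization.AtPrime qf.asIdeal)).comp ψf).Flat)
    {C : Type u} [CommRing C] [Algebra A C] [IsNoetherianRing C] [IsAdicComplete (I.map (algebraMap A C)) C]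
    (hftC : Algebra.FiniteType A (C ⧸ I.map (algebraMap A C)))
    {D : Type u} [CommRing D] [IsNoetherianRing D] [Algebra A D] [Algebra C D] [IsScalarTower A C D]
    [IsAdicComplete (I.map (algebraMap A D)) D] (hftD : Algebra.FiniteType A (D ⧸ I.map (algebraMap A D)))
    (iB : B →ₐ[A] D)
    (hliftD : ∀ (T : Type u) [CommRing T] [Algebra A T] [IsAdicComplete (I.map (algebraMap A T)) T] (u : B →ₐ[A] T)
      (v : C →ₐ[A] T), ∃ w : D →ₐ[A] T, w.comp iB = u ∧ w.comp (IsScalarTower.toAlgHom A C D) = v)
    (hextD : ∀ (T : Type u) [CommRing T] [Algebra A T] [IsAdicComplete (I.map (algebraMap A T)) T] (w w' : D →ₐ[A] T),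
      w.comp iB = w'.comp iB → w.comp (IsScalarTower.toAlgHom A C D) = w'.comp (IsScalarTower.toAlgHom A C D) → w = w')
    (IC : Ideal C) (hIC : IC = I.map (algebraMap A C)) (ID : Ideal D) (hID : ID = I.map (algebraMap A D))
    (h : C) (ψ : CA C IC h →+* CA D ID (algebraMap C D h))
    (hψ : ψ.comp (algebraMap C (CA C IC h)) = (algebraMap D (CA D ID (algebraMap C D h))).comp (algebraMap C D))
    (qh : PrimeSpectrum (CA D ID (algebraMap C D h)))
    (hqh : RigClosed (ID.map (algebraMap D (CA D ID (algebraMap C D h)))) qh) :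
    ((algebraMap (CA D ID (algebraMap C D h)) (Localization.AtPrime qh.asIdeal)).comp ψ).Flat := by
  subst hIC hID
  let IB := I.map (algebraMap A B)
  let Ch := CA C (I.map (algebraMap A C)) h
  let Dh := CA D (I.map (algebraMap A D)) (algebraMap C D h)
  let JC := (I.map (algebraMap A C)).map (algebraMap C Ch)
  let JD := (I.map (algebraMap A D)).map (algebraMap D Dh)
  haveI : IsNoetherianRing Ch := isNoetherianRing_CA _
  haveI : IsNoetherianRing Dh := isNoetherianRing_CA _
  haveI hChc : IsAdicComplete JC Ch := isAdicComplete_CA _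
  haveI hDhc : IsAdicComplete JD Dh := isAdicComplete_CA _
  have hJC : I.map (algebraMap A Ch) = JC := (map_map_tower I).symm
  have hJD : I.map (algebraMap A Dh) = JD := (map_map_tower I).symm
  have hftDh : Algebra.FiniteType A (Dh ⧸ JD) := finiteType_CA_base _ _ hftD
  -- spread the point out
  haveI : IsAdicComplete (JD.map (algebraMap Dh Dh)) Dh := by
    rw [Algebra.algebraMap_self, Ideal.map_id]; exact hDhc
  have h1D : IsUnit (algebraMap Dh Dh (algebraMap A Dh 1)) := by simp
  obtain ⟨Φ, hΦ⟩ := exists_CA_hom (J := JD) (algebraMap A Dh 1) Dh h1D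
  have hJe : (JD.map (algebraMap Dh (CA Dh JD (algebraMap A Dh 1)))).map Φ = JD :=
    (Ideal.map_map _ _).trans ((congrArg (fun g => Ideal.map g JD) (hΦ.trans Algebra.algebraMap_self)).trans (Ideal.map_id JD))
  haveI : IsAdicComplete ((JD.map (algebraMap Dh (CA Dh JD (algebraMap A Dh 1)))).map Φ) Dh := hJe.symm ▸ hDhc
  have hΦs : Function.Surjective Φ := fun y => ⟨algebraMap Dh _ y, RingHom.congr_fun hΦ y⟩
  have hqe := rigClosed_comap Φ (JD.map (algebraMap Dh (CA Dh JD (algebraMap A Dh 1)))) qh (hJe.symm ▸ hqh)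
    (RingHom.IsIntegral.of_finite (RingHom.Finite.of_surjective _ (Ideal.Quotient.mk_surjective.comp hΦs)))
  obtain ⟨f, -, hf⟩ := exists_refine I JD hJD hftDh 1 _ hqe
  let fC := algebraMap A Ch f
  let fD := algebraMap A Dh f
  have hleD : JD.map (RingHom.id Dh) ≤ JD := (Ideal.map_id JD).le
  have hdvd : RingHom.id Dh (algebraMap A Dh 1) ∣ fD := by simp
  obtain ⟨q, hq, hqc, hqint⟩ := hf JD rfl fD rfl hleD hdvd hJD.le dvd_rfl
  let A1 := CA A I f
  let B1 := CA B IB (algebraMap A B f)
  let C1 := CA Ch JC fC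
  let D1 := CA Dh JD fD
  haveI : IsNoetherianRing A1 := isNoetherianRing_CA _
  haveI : IsNoetherianRing B1 := isNoetherianRing_CA _
  haveI : IsNoetherianRing C1 := isNoetherianRing_CA _
  haveI : IsNoetherianRing D1 := isNoetherianRing_CA _
  haveI hA1c : IsAdicComplete (I.map (algebraMap A A1)) A1 := isAdicComplete_CA _
  haveI hD1c : IsAdicComplete (JD.map (algebraMap Dh D1)) D1 := isAdicComplete_CA _
  have hqf : q.asIdeal.comap (algebraMap Dh D1) = qh.asIdeal := by
    have e1 : (cmap (RingHom.id Dh) hleD (algebraMap A Dh 1) fD hdvd).comp (algebraMap Dh _) = algebraMap Dh D1 := by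
      rw [cmap_comp, RingHom.comp_id]
    rw [← e1, ← Ideal.comap_comap, hqc]
    show (qh.asIdeal.comap Φ).comap (algebraMap Dh _) = _
    rw [Ideal.comap_comap, hΦ, Algebra.algebraMap_self, Ideal.comap_id]
  let χB := cmap (J := I) (K := IB) (algebraMap A B) le_rfl f (algebraMap A B f) dvd_rfl
  let χC := cmap (J := I) (K := JC) (algebraMap A Ch) hJC.le f fC dvd_rfl
  let χD := cmap (J := I) (K := JD) (algebraMap A Dh) hJD.le f fD dvd_rfl
  letI : Algebra A1 B1 := χB.toAlgebra
  letI : Algebra A1 C1 := χC.toAlgebra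
  letI : Algebra A1 D1 := χD.toAlgebra
  haveI : IsScalarTower A A1 B1 := IsScalarTower.of_algebraMap_eq' ((cmap_comp _ _ _ _ _).trans (IsScalarTower.algebraMap_eq A B B1).symm).symm
  haveI : IsScalarTower A A1 C1 := IsScalarTower.of_algebraMap_eq' ((cmap_comp _ _ _ _ _).trans (IsScalarTower.algebraMap_eq A Ch C1).symm).symm
  haveI : IsScalarTower A A1 D1 := IsScalarTower.of_algebraMap_eq' ((cmap_comp _ _ _ _ _).trans (IsScalarTower.algebraMap_eq A Dh D1).symm).symm
  let I1 := I.map (algebraMap A A1)
  have hIB1 : I1.map (algebraMap A1 B1) = IB.map (algebraMap B B1) := (map_map_tower I).trans (map_map_tower I).symm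
  have hIC1 : I1.map (algebraMap A1 C1) = JC.map (algebraMap Ch C1) :=
    (map_map_tower I).trans ((map_map_tower (R := Ch) I).symm.trans (congrArg (Ideal.map (algebraMap Ch C1)) hJC))
  have hID1 : I1.map (algebraMap A1 D1) = JD.map (algebraMap Dh D1) :=
    (map_map_tower I).trans ((map_map_tower (R := Dh) I).symm.trans (congrArg (Ideal.map (algebraMap Dh D1)) hJD))
  haveI : IsAdicComplete (I1.map (algebraMap A1 B1)) B1 := hIB1.symm ▸ isAdicComplete_CA _
  haveI : IsAdicComplete (I1.map (algebraMap A1 C1)) C1 := hIC1.symm ▸ isAdicComplete_CA _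
  haveI hD1c' : IsAdicComplete (I1.map (algebraMap A1 D1)) D1 := hID1.symm ▸ hD1c
  haveI hD1cA : IsAdicComplete (I.map (algebraMap A D1)) D1 := map_map_tower (R := A1) (S := D1) I ▸ hD1c'
  haveI : IsAdicComplete ((IB.map (algebraMap B B1))) B1 := isAdicComplete_CA _
  have hftC1 : Algebra.FiniteType A1 (C1 ⧸ I1.map (algebraMap A1 C1)) := by
    rw [hIC1]
    haveI := finiteType_CA_base JC fC (finiteType_CA_base _ h hftC)
    exact Algebra.FiniteType.of_restrictScalars_finiteType A _ _
  have hftD1 : Algebra.FiniteType A1 (D1 ⧸ I1.map (algebraMap A1 D1)) := by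
    rw [hID1]
    haveI := finiteType_CA_base JD fD hftDh
    exact Algebra.FiniteType.of_restrictScalars_finiteType A _ _
  -- the two structure maps
  let iBh : B →ₐ[A] Dh := (IsScalarTower.toAlgHom A D Dh).comp iB
  have hψA : ψ.comp (algebraMap A Ch) = algebraMap A Dh := by
    rw [IsScalarTower.algebraMap_eq A C Ch, ← RingHom.comp_assoc, hψ, RingHom.comp_assoc,
      ← IsScalarTower.algebraMap_eq A C D, ← IsScalarTower.algebraMap_eq A D Dh]
  have hleB : IB.map iBh.toRingHom ≤ JD := (map_ringHom iBh.toRingHom iBh.comp_algebraMap I).trans hJD |>.le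
  have hdB : iBh.toRingHom (algebraMap A B f) ∣ fD := dvd_of_eq (iBh.commutes f)
  have hleC : JC.map ψ ≤ JD := ((congrArg (Ideal.map ψ) hJC.symm).trans ((map_ringHom ψ hψA I).trans hJD)).le
  have hdC : ψ fC ∣ fD := dvd_of_eq (RingHom.congr_fun hψA f)
  let ρ0 := cmap iBh.toRingHom hleB (algebraMap A B f) fD hdB
  let θ0 := cmap ψ hleC fC fD hdC
  have hle1 : I.map (algebraMap A D1) ≤ JD.map (algebraMap Dh D1) :=
    le_of_eq ((map_map_tower (R := Dh) I).symm.trans (congrArg (Ideal.map (algebraMap Dh D1)) hJD))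
  haveI : IsHausdorff (JD.map (algebraMap Dh D1)) D1 := hD1c.toIsHausdorff
  have hρχ : ρ0.comp χB = χD := by
    have e1 : (ρ0.comp χB).comp (algebraMap A A1) = algebraMap A D1 := by
      rw [RingHom.comp_assoc, cmap_comp, ← RingHom.comp_assoc, cmap_comp, RingHom.comp_assoc,
        show iBh.toRingHom.comp (algebraMap A B) = algebraMap A Dh from iBh.comp_algebraMap, ← IsScalarTower.algebraMap_eq A Dh D1]
    refine CA_hom_ext f (JD.map (algebraMap Dh D1)) _ _
      (e1.trans ((cmap_comp _ _ _ _ _).trans (IsScalarTower.algebraMap_eq A Dh D1).symm).symm) ?_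
    exact (congrArg (fun g => Ideal.map g I) e1).trans_le hle1
  have hθχ : θ0.comp χC = χD := by
    have e1 : (θ0.comp χC).comp (algebraMap A A1) = algebraMap A D1 := by
      rw [RingHom.comp_assoc, cmap_comp, ← RingHom.comp_assoc, cmap_comp, RingHom.comp_assoc, hψA,
        ← IsScalarTower.algebraMap_eq A Dh D1]
    refine CA_hom_ext f (JD.map (algebraMap Dh D1)) _ _
      (e1.trans ((cmap_comp _ _ _ _ _).trans (IsScalarTower.algebraMap_eq A Dh D1).symm).symm) ?_
    exact (congrArg (fun g => Ideal.map g I) e1).trans_le hle1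
  let ρ1 : B1 →ₐ[A1] D1 := { ρ0 with commutes' := RingHom.congr_fun hρχ }
  let θ1 : C1 →ₐ[A1] D1 := { θ0 with commutes' := RingHom.congr_fun hθχ }
  have hθC : θ0.comp ((algebraMap Ch C1).comp (algebraMap C Ch)) =
      (algebraMap Dh D1).comp ((algebraMap D Dh).comp (algebraMap C D)) := by
    rw [← RingHom.comp_assoc, cmap_comp, RingHom.comp_assoc, hψ]
  have hρB : ρ0.comp (algebraMap B B1) = (algebraMap Dh D1).comp iBh.toRingHom := cmap_comp _ _ _ _ _
  -- finiteness of the residue ring
  have hqD : RigClosed (I1.map (algebraMap A1 D1)) q := hID1.symm ▸ hq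
  haveI hintA : Algebra.IsIntegral A1 (D1 ⧸ q.asIdeal) := ⟨hqint⟩
  haveI hfin : Module.Finite A1 (D1 ⧸ q.asIdeal) := by
    refine ((Groth.Agent.S8829.result A1 I1 D1 hftD1 q hqD).out 0 2 rfl rfl).mp fun m hm hqm => ?_
    haveI := hm
    haveI := hftD1
    have hIm : I1.map (algebraMap A1 D1) ≤ m := (IsAdicComplete.le_jacobson_bot _).trans (sInf_le ⟨bot_le, hm⟩)
    haveI : Algebra.FiniteType A1 (D1 ⧸ m) :=
      Algebra.FiniteType.of_surjective (Ideal.Quotient.factorₐ A1 hIm) (Ideal.Quotient.factor_surjective hIm)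
    haveI : Algebra.IsIntegral A1 (D1 ⧸ m) :=
      Algebra.IsIntegral.of_surjective (Ideal.Quotient.factorₐ A1 hqm) (Ideal.Quotient.factor_surjective hqm)
    exact Algebra.IsIntegral.finite
  -- flatness on the source
  have hflatB : ((algebraMap B1 (Localization.AtPrime (q.asIdeal.comap ρ1.toRingHom))).comp (algebraMap A1 B1)).Flat := by
    have hmapρ : (IB.map (algebraMap B B1)).map ρ0 = JD.map (algebraMap Dh D1) :=
      (congrArg (Ideal.map ρ0) hIB1.symm).trans ((map_ringHom ρ0 hρχ I1).trans hID1)
    haveI : IsAdicComplete ((IB.map (algebraMap B B1)).map ρ0) D1 := hmapρ.symm ▸ hD1c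
    have hint2 : ((Ideal.Quotient.mk q.asIdeal).comp ρ0).IsIntegral := by
      refine RingHom.IsIntegral.tower_top χB _ ?_
      rw [RingHom.comp_assoc, hρχ]
      exact hqint
    exact hAB f χB (cmap_compat _ _ f) (PrimeSpectrum.comap ρ0 q) (rigClosed_comap ρ0 _ q (hmapρ.symm ▸ hq) hint2)
  -- the universal property after localization
  have key := flat_at_completedTensor I1 (B := B1) (C := C1) (D := D1) hftC1 ρ1 θ1 ?_ ?_ q.asIdeal hflatB
  · have e : θ0.comp (algebraMap Ch C1) = (algebraMap Dh D1).comp ψ := cmap_comp _ _ _ _ _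
    have hG : ((algebraMap D1 (Localization.AtPrime q.asIdeal)).comp ((algebraMap Dh D1).comp ψ)).Flat := by
      rw [← e, ← RingHom.comp_assoc]
      exact (flat_algebraMap_CA JC fC).comp key
    have hG2 := flat_of_flat_at_prime ψ (algebraMap Dh D1) (flat_algebraMap_CA JD fD) q.asIdeal hG
    obtain ⟨Q, hQ⟩ := qh
    subst hqf
    exact hG2
  · intro T _ _ hTc u v
    letI : Algebra A T := ((algebraMap A1 T).comp (algebraMap A A1)).toAlgebra
    haveI : IsScalarTower A A1 T := IsScalarTower.of_algebraMap_eq fun _ => rfl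
    haveI hTA : IsAdicComplete (I.map (algebraMap A T)) T := map_map_tower (R := A1) (S := T) I ▸ hTc
    let uA : B →ₐ[A] T := (u.restrictScalars A).comp (IsScalarTower.toAlgHom A B B1)
    let vA : C →ₐ[A] T := (v.restrictScalars A).comp ((IsScalarTower.toAlgHom A Ch C1).comp (IsScalarTower.toAlgHom A C Ch))
    obtain ⟨w1, hw1B, hw1C⟩ := hliftD T uA vA
    letI : Algebra D T := w1.toRingHom.toAlgebra
    haveI : IsScalarTower A D T := IsScalarTower.of_algebraMap_eq fun x => (w1.commutes x).symm
    haveI : IsAdicComplete ((I.map (algebraMap A D)).map (algebraMap D T)) T := (map_map_tower (R := D) (S := T) I).symm ▸ hTA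
    obtain ⟨w2, hw2⟩ := exists_CA_hom (J := I.map (algebraMap A D)) (algebraMap C D h) T (by
      show IsUnit (w1 (IsScalarTower.toAlgHom A C D h))
      rw [show w1 (IsScalarTower.toAlgHom A C D h) = vA h from AlgHom.congr_fun hw1C h]
      exact ((isUnit_CA (J := I.map (algebraMap A C)) h).map (algebraMap Ch C1)).map v)
    letI : Algebra Dh T := w2.toAlgebra
    haveI : IsScalarTower A Dh T := IsScalarTower.of_algebraMap_eq fun x => by
      rw [IsScalarTower.algebraMap_apply A D Dh, RingHom.algebraMap_toAlgebra w2]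
      exact ((RingHom.congr_fun hw2 (algebraMap A D x)).trans (w1.commutes x)).symm
    haveI : IsAdicComplete (JD.map (algebraMap Dh T)) T :=
      ((congrArg (Ideal.map (algebraMap Dh T)) hJD.symm).trans (map_map_tower (R := Dh) (S := T) I)).symm ▸ hTA
    obtain ⟨w3, hw3⟩ := exists_CA_hom (J := JD) fD T (by
      rw [← IsScalarTower.algebraMap_apply A Dh T, IsScalarTower.algebraMap_apply A A1 T]
      exact (isUnit_CA f).map _)
    have hwA : (w3.comp χD).comp (algebraMap A A1) = algebraMap A T := by
      rw [RingHom.comp_assoc, cmap_comp, ← RingHom.comp_assoc, hw3, ← IsScalarTower.algebraMap_eq A Dh T]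
    have hleT : I.map (algebraMap A T) ≤ I1.map (algebraMap A1 T) := le_of_eq (map_map_tower (R := A1) (S := T) I).symm
    have hw : w3.comp χD = algebraMap A1 T :=
      CA_hom_ext f (I1.map (algebraMap A1 T)) _ _ (hwA.trans (IsScalarTower.algebraMap_eq A A1 T))
        ((congrArg (fun g => Ideal.map g I) hwA).trans_le hleT)
    refine ⟨{ w3 with commutes' := RingHom.congr_fun hw }, ?_, ?_⟩
    · apply AlgHom.coe_ringHom_injective
      have e1 : (w3.comp ρ0).comp (algebraMap B B1) = (u : B1 →+* T).comp (algebraMap B B1) := by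
        rw [RingHom.comp_assoc, hρB, ← RingHom.comp_assoc, hw3]
        refine RingHom.ext fun b => ?_
        exact (RingHom.congr_fun hw2 (iB b)).trans (AlgHom.congr_fun hw1B b)
      refine CA_hom_ext (algebraMap A B f) (I1.map (algebraMap A1 T)) (w3.comp ρ0) u e1 (le_trans (le_of_eq ?_) hleT)
      exact (congrArg (fun g => Ideal.map g IB) e1).trans (map_ringHom _ uA.comp_algebraMap I)
    · apply AlgHom.coe_ringHom_injective
      have e2 : (w3.comp θ0).comp ((algebraMap Ch C1).comp (algebraMap C Ch)) =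
          (v : C1 →+* T).comp ((algebraMap Ch C1).comp (algebraMap C Ch)) := by
        rw [RingHom.comp_assoc, hθC, ← RingHom.comp_assoc, hw3]
        refine RingHom.ext fun x => ?_
        exact (RingHom.congr_fun hw2 (algebraMap C D x)).trans (AlgHom.congr_fun hw1C x)
      have e1 : (w3.comp θ0).comp (algebraMap Ch C1) = (v : C1 →+* T).comp (algebraMap Ch C1) := by
        refine CA_hom_ext h (I1.map (algebraMap A1 T)) _ _ (by rw [RingHom.comp_assoc, RingHom.comp_assoc]; exact e2)
          (le_trans (le_of_eq ?_) hleT)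
        refine map_ringHom _ ?_ I
        refine RingHom.ext fun x => ?_
        exact (RingHom.congr_fun e2 (algebraMap A C x)).trans (vA.commutes x)
      refine CA_hom_ext fC (I1.map (algebraMap A1 T)) (w3.comp θ0) v e1 (le_trans (le_of_eq ?_) hleT)
      refine (congrArg (Ideal.map _) hJC.symm).trans (map_ringHom _ ?_ I)
      refine RingHom.ext fun x => ?_
      exact (RingHom.congr_fun e1 (algebraMap A Ch x)).trans
        (((v.restrictScalars A).comp (IsScalarTower.toAlgHom A Ch C1)).commutes x)
  · intro T _ _ hTc w w' hB hC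
    letI : Algebra A T := ((algebraMap A1 T).comp (algebraMap A A1)).toAlgebra
    haveI : IsScalarTower A A1 T := IsScalarTower.of_algebraMap_eq fun _ => rfl
    haveI hTA : IsAdicComplete (I.map (algebraMap A T)) T := map_map_tower (R := A1) (S := T) I ▸ hTc
    let γ := fun g : D1 →ₐ[A1] T =>
      ((g.restrictScalars A).comp ((IsScalarTower.toAlgHom A Dh D1).comp (IsScalarTower.toAlgHom A D Dh)))
    have hD : γ w = γ w' := by
      refine hextD T _ _ (AlgHom.ext fun b => ?_) (AlgHom.ext fun x => ?_)
      · show w (algebraMap Dh D1 (iBh b)) = w' (algebraMap Dh D1 (iBh b))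
        rw [show algebraMap Dh D1 (iBh b) = ρ1 (algebraMap B B1 b) from (RingHom.congr_fun hρB b).symm]
        exact AlgHom.congr_fun hB _
      · show w (algebraMap Dh D1 (algebraMap D Dh (algebraMap C D x))) = w' (algebraMap Dh D1 (algebraMap D Dh (algebraMap C D x)))
        rw [show algebraMap Dh D1 (algebraMap D Dh (algebraMap C D x)) = θ1 (algebraMap Ch C1 (algebraMap C Ch x)) from
          (RingHom.congr_fun hθC x).symm]
        exact AlgHom.congr_fun hC _
    have hleT : I.map (algebraMap A T) ≤ I1.map (algebraMap A1 T) := le_of_eq (map_map_tower (R := A1) (S := T) I).symm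
    have e1 : (w : D1 →+* T).comp (algebraMap Dh D1) = (w' : D1 →+* T).comp (algebraMap Dh D1) := by
      refine CA_hom_ext (algebraMap C D h) (I1.map (algebraMap A1 T)) _ _
        (RingHom.ext fun d => AlgHom.congr_fun hD d) (le_trans (le_of_eq ?_) hleT)
      exact map_ringHom _ (γ w).comp_algebraMap I
    apply AlgHom.coe_ringHom_injective
    refine CA_hom_ext fD (I1.map (algebraMap A1 T)) _ _ e1 (le_trans (le_of_eq ?_) hleT)
    refine (congrArg (Ideal.map _) hJD.symm).trans (map_ringHom _ ?_ I)
    exact ((w.restrictScalars A).comp (IsScalarTower.toAlgHom A Dh D1)).comp_algebraMap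

theorem exists_algHom_of_eq {R P T : Type u} [CommRing R] [CommRing P] [Algebra R P] [CommRing T] [Algebra R T]
    (I : Ideal R) [IsAdicComplete (I.map (algebraMap R T)) T] (J : Ideal P) (hJ : J = I.map (algebraMap R P)) (g : P →ₐ[R] T) :
    ∃ ψ : AdicCompletion J P →ₐ[R] T, ∀ p, ψ (algebraMap P _ p) = g p := by
  subst hJ; exact exists_algHom I g

theorem algHom_ext_of_eq {R P T : Type u} [CommRing R] [IsNoetherianRing R] [CommRing P] [Algebra R P] [CommRing T]
    [Algebra R T] (I : Ideal R) [IsHausdorff (I.map (algebraMap R T)) T] (J : Ideal P) (hJ : J = I.map (algebraMap R P))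
    {ψ ψ' : AdicCompletion J P →ₐ[R] T} (h : ∀ p, ψ (algebraMap P _ p) = ψ' (algebraMap P _ p)) : ψ = ψ' := by
  subst hJ; exact algHom_ext I (Ideal.FG.map (IsNoetherian.noetherian I) _) h

/-- Rig-flatness passes to the completed tensor product. -/
theorem flat_rigClosed_completedTensor {A : Type u} [CommRing A] [IsNoetherianRing A] (I : Ideal A) [IsAdicComplete I A]
    {B : Type u} [CommRing B] [Algebra A B] [IsNoetherianRing B] [IsAdicComplete (I.map (algebraMap A B)) B]
    (hft : Algebra.FiniteType A (B ⧸ I.map (algebraMap A B)))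
    (hAB : ∀ (f : A) (ψf : CA A I f →+* CA B (I.map (algebraMap A B)) (algebraMap A B f)),
      ψf.comp (algebraMap (Localization.Away f) (CA A I f)) =
        (algebraMap (Localization.Away (algebraMap A B f)) (CA B (I.map (algebraMap A B)) (algebraMap A B f))).comp
          (Localization.awayMap (algebraMap A B) f) →
      ∀ qf, RigClosed ((I.map (algebraMap A B)).map (algebraMap B (CA B (I.map (algebraMap A B)) (algebraMap A B f)))) qf →
        ((algebraMap (CA B (I.map (algebraMap A B)) (algebraMap A B f)) (Localization.AtPrime qf.asIdeal)).comp ψf).Flat)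
    {C : Type u} [CommRing C] [Algebra A C] [IsNoetherianRing C] [IsAdicComplete (I.map (algebraMap A C)) C]
    (hftC : Algebra.FiniteType A (C ⧸ I.map (algebraMap A C))) (IC : Ideal C) (hIC : IC = I.map (algebraMap A C))
    (JT : Ideal (C ⊗[A] B)) (hJT : JT = IC.map (algebraMap C (C ⊗[A] B)))
    (K : Ideal (AdicCompletion JT (C ⊗[A] B))) (hK : K = IC.map (algebraMap C (AdicCompletion JT (C ⊗[A] B))))
    (h : C) (ψ : CA C IC h →+* CA (AdicCompletion JT (C ⊗[A] B)) K (algebraMap C _ h))
    (hψ : ψ.comp (algebraMap C (CA C IC h)) =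
      (algebraMap (AdicCompletion JT (C ⊗[A] B)) (CA (AdicCompletion JT (C ⊗[A] B)) K (algebraMap C _ h))).comp (algebraMap C _))
    (qh : PrimeSpectrum (CA (AdicCompletion JT (C ⊗[A] B)) K (algebraMap C _ h)))
    (hq : RigClosed (K.map (algebraMap (AdicCompletion JT (C ⊗[A] B)) _)) qh) :
    ((algebraMap (CA (AdicCompletion JT (C ⊗[A] B)) K (algebraMap C _ h)) (Localization.AtPrime qh.asIdeal)).comp ψ).Flat := by
  have hJT' : JT = I.map (algebraMap A (C ⊗[A] B)) := hJT.trans ((congrArg (Ideal.map (algebraMap C (C ⊗[A] B))) hIC).trans (map_map_tower I))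
  obtain ⟨hDc, hDn, hftD⟩ := cpl_of_finiteType_quotient I JT hJT' (finiteType_tensor_quotient I hft hftC)
  let D := AdicCompletion JT (C ⊗[A] B)
  let iB : B →ₐ[A] D := (IsScalarTower.toAlgHom A (TensorProduct A C B) D).comp Algebra.TensorProduct.includeRight
  haveI : IsScalarTower A C D := inferInstance
  refine flat_rigClosed_baseChange I hAB hftC hftD iB ?_ ?_ IC hIC K ?_ h ψ hψ qh hq
  · intro T _ _ hT u v
    letI : Algebra C T := v.toRingHom.toAlgebra
    haveI : IsScalarTower A C T := IsScalarTower.of_algebraMap_eq fun x => (v.commutes x).symm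
    haveI : IsAdicComplete (IC.map (algebraMap C T)) T := (show IC.map (algebraMap C T) = I.map (algebraMap A T) by rw [hIC, map_map_tower]).symm ▸ hT
    obtain ⟨w, hw⟩ := exists_algHom_of_eq IC JT hJT (Algebra.TensorProduct.lift (Algebra.ofId C T) u (fun _ _ => mul_comm _ _) :
      TensorProduct A C B →ₐ[C] T)
    refine ⟨w.restrictScalars A, AlgHom.ext fun b => ?_, AlgHom.ext fun x => ?_⟩
    · show w (algebraMap (TensorProduct A C B) D (1 ⊗ₜ b)) = u b
      rw [hw, Algebra.TensorProduct.lift_tmul, map_one, one_mul]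
    · exact w.commutes x
  · intro T _ _ hT w w' hB hC
    letI : Algebra C T := (w.comp (IsScalarTower.toAlgHom A C D)).toRingHom.toAlgebra
    haveI : IsScalarTower A C T := IsScalarTower.of_algebraMap_eq fun x =>
      ((w.comp (IsScalarTower.toAlgHom A C D)).commutes x).symm
    haveI : IsHausdorff (IC.map (algebraMap C T)) T := (show IC.map (algebraMap C T) = I.map (algebraMap A T) by rw [hIC, map_map_tower]).symm ▸ hT.toIsHausdorff
    let wC : D →ₐ[C] T := { w.toRingHom with commutes' := fun x => rfl }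
    let wC' : D →ₐ[C] T := { w'.toRingHom with commutes' := fun x => (AlgHom.congr_fun hC x).symm }
    have e : wC = wC' := algHom_ext_of_eq IC JT hJT fun p => by
      refine AlgHom.congr_fun (φ₁ := wC.comp (IsScalarTower.toAlgHom C (TensorProduct A C B) D))
        (φ₂ := wC'.comp (IsScalarTower.toAlgHom C (TensorProduct A C B) D)) (Algebra.TensorProduct.ext ?_ ?_) p
      · exact Algebra.ext_id _ _ _
      · exact AlgHom.ext fun b => AlgHom.congr_fun hB b
    exact AlgHom.ext fun x => AlgHom.congr_fun e x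
  · exact hK.trans ((congrArg (Ideal.map (algebraMap C D)) hIC).trans (map_map_tower I))

end Groth.Agent.H24Adic
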